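import Cfsg.Statements.S0775
import Cfsg.Agent.OD.Pre
import Cfsg.Agent.H2.Count

set_option autoImplicit false
open Cfsg

namespace Cfsg.Agent.S0775

/-- Maximal parabolics of the symplectic group: if W is a k-dimensional subspace of F^(2m) on which the symplectic form vanishes identically, its stabiliser in Sp_2m(q) has order q^(k(k+1)/2 + 2k(m−k)) · |Sp_(2m−2k)(q)| · |GL_k(q)|. -/
theorem result {F : Type*} [Field F] [Fintype F] {q : ℕ} (hF : Fintype.card F = q) (m k : ℕ) (hk : k ≤ m) (W : Submodule F (Fin m ⊕ Fin m → F)) (hWk : Module.finrank F W = k) (hW : ∀ u ∈ W, ∀ v ∈ W, Cfsg.sympForm m F u v = 0) : Nat.card ↥(Cfsg.stabilizing (Cfsg.spToMat m F) (W : Set (Fin m ⊕ Fin m → F))) = q ^ (k * (k + 1) / 2 + 2 * k * (m - k)) * (q ^ ((m - k) ^ 2) * ∏ i ∈ Finset.range (m - k), (q ^ (2 * (i + 1)) - 1)) * ∏ i : Fin k, (q ^ k - q ^ (i : ℕ)) := by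
  have h := CfH2.isWF_symp m F
  have hV : Module.finrank F (Fin m ⊕ Fin m → F) = 2 * k + 2 * (m - k) := by simp; omega
  obtain ⟨H', h1, h2, h3⟩ := h.card_stab_sing k (2 * (m - k)) W (fun _ _ => rfl)
    (fun y hy x hx => (CfH2.sympB_apply m x y).trans (hW x hx y hy)) hWk hV
  have h4 : ∀ r k : ℕ, ∏ j ∈ Finset.range k, (q ^ (r + j) * q) = q ^ (k * (k + 1) / 2 + k * r) := by
    intro r k
    induction k with
    | zero => simp
    | succ k ih =>
      have := Nat.triangle_succ (k + 1)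
      simp only [Nat.add_sub_cancel] at this
      rw [Finset.prod_range_succ, ih, mul_comm (k + 1) (k + 1 + 1), this, mul_comm k (k + 1)]
      ring
  rw [(CfH2.rep_sp m F).card_subgroup _ (CfH2.stabS F (W : Set _)) (fun g => Iff.rfl), h3,
    CfH2.card_fix_symp h (m - k) H' h1 (by omega), AddMonoidHom.ker_zero, AddSubgroup.card_top,
    Nat.card_eq_fintype_card, hF, h4]
  ring

end Cfsg.Agent.S0775
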