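import Cfsg.Statements.S0782
import Cfsg.Agent.OD.Pre
import Cfsg.Agent.H2.Unitary

set_option autoImplicit false
open Cfsg

namespace Cfsg.Agent.S0782

/-- Maximal parabolics of SU_n(q): if W is a k-dimensional subspace of F^n (n ≥ 1, |F| = q²) on which the Hermitian form vanishes, then (q + 1) times the order of its stabiliser in SU_n(q) equals q^(k(2n−3k)) · |GL_k(q²)| · |GU_(n−2k)(q)|, where |GU_m(q)| = q^(m(m−1)/2) Π_(i=1..m) (q^i − (−1)^i). -/
theorem result {F : Type*} [Field F] [Fintype F] {q : ℕ} (hF : Fintype.card F = q ^ 2) (n k : ℕ) (hn : 1 ≤ n) (hk : 2 * k ≤ n) (W : Submodule F (Fin n → F)) (hWk : Module.finrank F W = k) (hW : ∀ u ∈ W, ∀ v ∈ W, Cfsg.hermForm n F q u v = 0) : (q + 1) * Nat.card ↥((Cfsg.stabilizing (Cfsg.slToMat n F) (W : Set (Fin n → F))).subgroupOf (Cfsg.SU n F q)) = q ^ (k * (2 * n - 3 * k)) * (∏ i : Fin k, ((q ^ 2) ^ k - (q ^ 2) ^ (i : ℕ))) * (q ^ ((n - 2 * k) * ((n - 2 * k)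 - 1) / 2) * ∏ i ∈ Finset.range (n - 2 * k), (if Even i then q ^ (i + 1) + 1 else q ^ (i + 1) - 1)) := by
  have h := CfH2.isWF_hermB hF n
  have hσ := CfH2.frobQ_ne_id hF
  have hWW : W ≤ CfH2.perp (CfH2.hermB hF n) W := fun y hy x hx => hW y hy x hx
  have h1 := CfH2.card_stab_herm hF h k (n - 2 * k) W hWW hWk (by simp; omega)
  rw [show k + 2 * (n - 2 * k) = 2 * n - 3 * k by omega] at h1
  rw [← h1, (CfH2.rep_SU hF n).card_subgroup _ (CfH2.stabS F (W : Set _)) (fun g => Iff.rfl)]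
  set L := CfH2.Isom (CfH2.hermB hF n) (fun x => CfH2.hermB hF n x x) ⊓ CfH2.stabS F (W : Set _)
    with hL
  rw [CfH2.card_eq_card_range_mul (LinearEquiv.det.comp L.subtype),
    (CfH2.rep_subtype L).card_subgroup _ LinearEquiv.det.ker (fun g => Iff.rfl), inf_assoc,
    inf_comm L]
  congr 1
  rw [← CfH2.card_norm_eq hF 1 one_ne_zero (one_pow q)]
  symm
  refine Nat.card_congr (Equiv.ofBijective (fun u => ⟨u.1.1, ?_⟩) ⟨?_, ?_⟩)
  · obtain ⟨_, g, rfl⟩ := u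
    have := h.det_mul_sigma hσ g.2.1
    rwa [← LinearEquiv.coe_det, CfH2.frobQ_apply, ← pow_succ'] at this
  · intro a b hab
    exact Subtype.ext (Units.ext (congrArg Subtype.val hab))
  · rintro ⟨l, hl⟩
    obtain ⟨g, hg, hg'⟩ := h.exists_det_stab hσ (by simpa using hn) hWW (l := l)
      (by rw [← hl, pow_succ']; rfl)
    exact ⟨⟨_, ⟨g, hg⟩, rfl⟩, Subtype.ext ((LinearEquiv.coe_det g).trans hg')⟩

end Cfsg.Agent.S0782
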