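import Cfsg.Statements.S0840
import Cfsg.Agent.OD.Pre
import Cfsg.Agent.H5.Integral
import Cfsg.Agent.H4.Orth

set_option autoImplicit false
open scoped ComplexConjugate
open Cfsg

namespace Cfsg.Agent.S0840

open CfH4

/-- Class multiplication coefficients from the character table: for elements a, b, c of a finite group G, the number of ordered pairs (x, y) with x conjugate to a, y conjugate to b and x * y = c equals the product of the sizes of the conjugacy classes of a and b, divided by the order of G, times the sum over the irreducible characters χ of χ a * χ b * conj (χ c) / χ 1. -/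
theorem result {G : Type*} [Group G] [Finite G] (a b c : G) : (Nat.card {p : G × G // IsConj a p.1 ∧ IsConj b p.2 ∧ p.1 * p.2 = c} : ℂ) = (Nat.card {x : G // IsConj a x} : ℂ) * (Nat.card {x : G // IsConj b x} : ℂ) / (Nat.card G : ℂ) * ∑ᶠ χ : Cfsg.IrrCharacter G, (χ : G → ℂ) a * (χ : G → ℂ) b * conj ((χ : G → ℂ) c) / (χ : G → ℂ) 1 := by
  classical
  have := Fintype.ofFinite G
  rw [finsum_eq_sum_of_fintype]
  let δ : G → G → ℂ := fun a x => if IsConj a x then 1 else 0
  have hδ : ∀ a, IsClassFunction G (δ a) := fun a x y => by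
    have : IsConj a (y * x * y⁻¹) ↔ IsConj a x :=
      ⟨fun h => h.trans (isConj_iff.2 ⟨y⁻¹, by group⟩), fun h => h.trans (isConj_iff.2 ⟨y, rfl⟩)⟩
    simp only [δ, this]
  have hsum : ∀ a, ∀ χ : G → ℂ, IsClassFunction G χ →
      ∑ x, δ a x * χ x = Nat.card {x : G // IsConj a x} * χ a := by
    intro a χ hχ
    rw [Nat.card_eq_fintype_card, Fintype.card_subtype, Finset.card_filter]
    push_cast
    rw [Finset.sum_mul]
    refine Finset.sum_congr rfl fun x _ => ?_
    simp only [δ]
    split_ifs with h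
    · rw [hχ.of_isConj h]
    · simp
  let f : G → ℂ := fun z => ∑ x, δ a x * δ b (x⁻¹ * z)
  have hf : IsClassFunction G f := fun z y => by
    simp only [f]
    refine Fintype.sum_equiv (MulAut.conj y⁻¹).toEquiv _ _ fun x => ?_
    simp only [MulEquiv.toEquiv_eq_coe, EquivLike.coe_coe, MulAut.conj_apply]
    rw [hδ a, ← hδ b _ y⁻¹]
    congr 2; group
  have h1 : (Nat.card {p : G × G // IsConj a p.1 ∧ IsConj b p.2 ∧ p.1 * p.2 = c} : ℂ) = f c := by
    have : Nat.card {p : G × G // IsConj a p.1 ∧ IsConj b p.2 ∧ p.1 * p.2 = c} =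
        Nat.card {x : G // IsConj a x ∧ IsConj b (x⁻¹ * c)} :=
      Nat.card_congr ⟨fun p => ⟨p.1.1, p.2.1, by
          obtain ⟨⟨x, y⟩, h1, h2, rfl⟩ := p; rwa [inv_mul_cancel_left]⟩,
        fun x => ⟨(x.1, x.1⁻¹ * c), x.2.1, x.2.2, by simp⟩,
        fun p => Subtype.ext (Prod.ext rfl (by obtain ⟨⟨x, y⟩, h1, h2, rfl⟩ := p; simp)), fun _ => rfl⟩
    rw [this, Nat.card_eq_fintype_card, Fintype.card_subtype, Finset.card_filter]
    push_cast
    refine Finset.sum_congr rfl fun x _ => ?_
    simp only [δ]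
    by_cases h1 : IsConj a x <;> by_cases h2 : IsConj b (x⁻¹ * c) <;> simp only [h1, h2] <;> simp
  have h2 : ∀ χ : G → ℂ, IsIrrCharacter G χ → ∑ z, f z * χ z =
      Nat.card {x : G // IsConj a x} * Nat.card {x : G // IsConj b x} * (χ a * χ b / χ 1) := by
    intro χ hχ
    have h0 := hχ.apply_one_ne_zero
    have hc := hχ.classFun
    obtain ⟨n, ρ, hρ, rfl⟩ := hχ
    have h3 : ∑ z, f z • ρ z = (∑ x, δ a x • ρ x) * ∑ y, δ b y • ρ y := by
      simp only [f, Finset.sum_smul, Finset.sum_mul_sum]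
      rw [Finset.sum_comm]
      refine Finset.sum_congr rfl fun x _ => ?_
      refine Fintype.sum_equiv (Equiv.mulLeft x⁻¹) _ _ fun z => ?_
      simp only [Equiv.coe_mulLeft, smul_mul_smul_comm, ← map_mul, mul_inv_cancel_left]
    rw [← CfH4.trace_classSum, h3, CfH5.sum_classFun_smul_rep ρ (hδ a),
      CfH5.sum_classFun_smul_rep ρ (hδ b), hsum a _ hc, hsum b _ hc, smul_mul_smul_comm, mul_one,
      map_smul, LinearMap.trace_one, ← ρ.char_one, smul_eq_mul]
    field_simp
  have h4 := (hf.conj).apply_eq_sum c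
  have h5 := congrArg conj h4
  simp only [Complex.conj_conj, map_sum, map_mul] at h5
  rw [h1, h5, Finset.mul_sum]
  refine Finset.sum_congr rfl fun χ _ => ?_
  rw [CfH4.conj_classInner, CfH4.classInner_def]
  simp only [Complex.conj_conj, mul_comm (χ.1 _) (f _), h2 _ χ.2]
  ring

end Cfsg.Agent.S0840
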