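import Cfsg.Statements.S2837
import Cfsg.Agent.OD.Pre
import Cfsg.Agent.H7.PIrr

set_option autoImplicit false
set_option linter.unusedVariables false
open Cfsg

namespace Cfsg.Agent.S2837

open Subgroup CfH7 CfH9
open scoped commutatorElement


/-- Let L be a finite group of characteristic p, L₀ a maximal subgroup, Y an elementary abelian p-subgroup of L₀ with L Y-minimal and O_p(L) ≤ N_L(Y). Put A = the normal closure of O_p(L) ∩ Y in L. Then for every g ∈ L outside L₀: Φ(A) = A' = [A ∩ Y, A] = [A ∩ Y, A ∩ gYg⁻¹] ≤ C_Y(L), and Y ∩ gYg⁻¹ = (A ∩ Y) ∩ (A ∩ gYg⁻¹) = C_Y(L) = C_A(L). -/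
theorem result {L : Type*} [Group L] [Finite L] {p : ℕ} [Fact p.Prime] (hchar : Subgroup.centralizer (Cfsg.pCore p L : Set L) ≤ Cfsg.pCore p L) (L₀ : Subgroup L) (hL₀ : IsCoatom L₀) (Y : Subgroup L) (hYL₀ : Y ≤ L₀) (hYel : Cfsg.IsElementaryAbelian p Y) (hmin : Cfsg.IsMinimalOver Y) (hOY : Cfsg.pCore p L ≤ Subgroup.normalizer (Y : Set L)) (A : Subgroup L) (hA : A = Subgroup.normalClosure (((Cfsg.pCore p L ⊓ Y : Subgroup L)) : Set L)) (g : L) (hg : g ∉ L₀) : (frattini ↥A).map A.subtype = ⁅A, A⁆ ∧ ⁅A, A⁆ = ⁅A ⊓ Y, A⁆ ∧ ⁅A ⊓ Y, A⁆ = ⁅A ⊓ Y, A ⊓ Y.map (MulAut.conj g).toMonoidHom⁆ ∧ ⁅A ⊓ Y, A⁆ ≤ Y ⊓ Subgroup.center L ∧ Y ⊓ Y.map (MulAut.conj g).toMonoidHom = Y ⊓ Subgroup.center L ∧ (A ⊓ Y) ⊓ (A ⊓ Y.map (MulAut.conj g).toMonoidHom) = Y ⊓ Subgroup.center L ∧ A ⊓ Subgroup.center L = Y ⊓ Subgroup.center L := by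
  have h := minOver_of_isMinimalOver hmin hL₀ hYL₀
  have hYp := elemAb_isPGroup hYel
  have hYC := elemAb_le_Cz hYel
  change (frattini ↥A).map A.subtype = ⁅A, A⁆ ∧ ⁅A, A⁆ = ⁅A ⊓ Y, A⁆ ∧
    ⁅A ⊓ Y, A⁆ = ⁅A ⊓ Y, A ⊓ cj g Y⁆ ∧ ⁅A ⊓ Y, A⁆ ≤ Y ⊓ center L ∧ Y ⊓ cj g Y = Y ⊓ center L ∧
    (A ⊓ Y) ⊓ (A ⊓ cj g Y) = Y ⊓ center L ∧ A ⊓ center L = Y ⊓ center L
  rw [← nclo_top] at hA
  set O := pCore p L with hO
  have hgen := h.sup_cj (mem_top g) hg
  have hint : Y ⊓ cj g Y = Y ⊓ center L := by rw [← Cz_top]; exact h.inf_cj hYC (mem_top g) hg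
  have hAO : A ≤ O := hA ▸ nclo_le (top_le_Nm O) inf_le_left
  have hAn : (⊤ : Subgroup L) ≤ Nm(A) := hA ▸ right_le_Nm_nclo _ _
  haveI : A.Normal := normal_of_top_le_normalizer hAn
  have hB : A ⊓ Y = O ⊓ Y :=
    le_antisymm (inf_le_inf_right _ hAO) (le_inf ((le_nclo _ _).trans hA.ge) inf_le_right)
  have hB' : A ⊓ cj g Y = cj g (O ⊓ Y) := by rw [← hB, cj_inf, cj_normal g A]
  have hOY' : O ≤ Nm(cj g Y) := by
    rw [← cj_normalizer, ← cj_normal g O]; exact cj_mono g hOY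
  have hOB : O ≤ Nm(A ⊓ Y) := le_normalizer_inf (le_Nm_normal O A) hOY
  have hOB' : O ≤ Nm(A ⊓ cj g Y) := le_normalizer_inf (le_Nm_normal _ _) hOY'
  have hc1 : ⁅O, Y⁆ ≤ A ⊓ Y :=
    (le_inf (comm_le_left (le_Nm_normal _ _)) (comm_le_right hOY)).trans hB.ge
  have hc2 : ⁅O, cj g Y⁆ ≤ A ⊓ cj g Y := by
    rw [← cj_normal g O, ← cj_commutator, ← cj_normal g A, ← cj_inf]; exact cj_mono g hc1
  have hU : (A ⊓ Y) ⊔ (A ⊓ cj g Y) ≤ O := (sup_le inf_le_left inf_le_left).trans hAO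
  have hAeq : A = (A ⊓ Y) ⊔ (A ⊓ cj g Y) := by
    refine le_antisymm ?_ (sup_le inf_le_left inf_le_left)
    conv_lhs => rw [hA]
    refine nclo_le ?_ (hB ▸ le_sup_left)
    rw [← hgen]
    exact sup_le
      (le_Nm_of_comm_le_left (((commutator_mono hU le_rfl).trans hc1).trans le_sup_left))
      (le_Nm_of_comm_le_left (((commutator_mono hU le_rfl).trans hc2).trans le_sup_right))
  set B := A ⊓ Y with hBdef
  set B' := A ⊓ cj g Y with hB'def
  have hBel : IsElementaryAbelian p B := elemAb_of_le inf_le_right hYel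
  have hBel' : IsElementaryAbelian p B' := elemAb_of_le inf_le_right (elemAb_map hYel _)
  have hD : ⁅B, B'⁆ ≤ Y ⊓ center L := hint ▸ le_inf
    ((comm_le_left (inf_le_left.trans (hAO.trans hOB))).trans inf_le_right)
    ((comm_le_right (inf_le_left.trans (hAO.trans hOB'))).trans inf_le_right)
  have hDn : ∀ X : Subgroup L, X ≤ Nm(⁅B, B'⁆) := fun X =>
    (le_Cz_comm ((hD.trans inf_le_right).trans (Cz_top.ge.trans (Cz_anti le_top)))).trans (Cz_le_Nm _)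
  have h1 : ⁅B, A⁆ = ⁅B, B'⁆ := by
    refine le_antisymm ?_ (commutator_mono le_rfl inf_le_left)
    conv_lhs => rw [hAeq]
    refine commutator_sup_right_le (hDn _) (hDn _) ?_ le_rfl
    rw [comm_eq_bot_left.mpr (elemAb_le_Cz hBel)]; exact bot_le
  have h1' : ⁅B', A⁆ ≤ ⁅B, B'⁆ := by
    conv_lhs => rw [hAeq]
    refine commutator_sup_right_le (hDn _) (hDn _) (commutator_comm _ _).le ?_
    rw [comm_eq_bot_left.mpr (elemAb_le_Cz hBel')]; exact bot_le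
  have h2 : ⁅A, A⁆ = ⁅B, A⁆ := by
    refine le_antisymm ?_ (commutator_mono inf_le_left le_rfl)
    rw [h1]
    conv_lhs => lhs; rw [hAeq]
    exact commutator_sup_left_le (hDn _) (hDn _) h1.le h1'
  have hAp : IsPGroup p A := (isPGroup_pCore p L).to_le hAO
  have hZ : Y ⊓ center L ≤ A := by
    refine le_trans ?_ (hB.ge.trans inf_le_left)
    exact le_inf (inf_le_right.trans ((Cz_top.ge.trans (Cz_anti le_top)).trans hchar)) inf_le_left
  refine ⟨le_antisymm ?_ (CfH1.commutator_le_frattiniOf hAp.isNilpotent), h2, h1, h1.le.trans hD,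
    hint, ?_, ?_⟩
  · refine CfH1.frattiniOf_le_of_commutator_le_of_pow_mem (p := p) le_rfl fun x hx => ?_
    haveI : (⁅A, A⁆).Normal := inferInstance
    have h3 : IsElementaryAbelian p (A.map (QuotientGroup.mk' ⁅A, A⁆)) := by
      refine elemAb_of_le (map_mono hAeq.le) ?_
      rw [Subgroup.map_sup]
      refine elemAb_sup (elemAb_map hBel _) (elemAb_map hBel' _) ?_
      rw [← comm_eq_bot_left, ← map_commutator, CfH1.map_mk'_eq_bot_iff]
      exact commutator_mono inf_le_left inf_le_left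
    have := h3.2 _ (mem_map_of_mem _ hx)
    rwa [← map_pow, QuotientGroup.mk'_apply, QuotientGroup.eq_one_iff] at this
  · rw [hBdef, hB'def, ← inf_inf_distrib_left, hint, inf_eq_right.mpr hZ]
  · refine le_antisymm (le_inf ?_ inf_le_right) (le_inf hZ inf_le_right)
    intro a ha
    obtain ⟨b, hb, c, hc, rfl⟩ := (mem_sup_of_le_Nm (inf_le_left.trans (hAO.trans hOB'))).mp
      (hAeq.le (mi1 ha))
    have hcY : c ∈ Cz(Y) := (mul_mem_cancel_left (hYC (mi2 hb))).mp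
      ((Cz_top.ge.trans (Cz_anti le_top)) (mi2 ha))
    have hcZ : c ∈ Cz((⊤ : Subgroup L)) := by
      rw [← hgen, Cz_sup]
      exact mi hcY (elemAb_le_Cz (elemAb_map hYel _) (mi2 hc))
    have : c ∈ Y := by
      have h4 := mem_cj.mp (mi2 hc)
      have h5 : g⁻¹ * c * g = c := by
        have := hcZ g (mem_top g)
        rw [mul_assoc, ← this, inv_mul_cancel_left]
      rwa [h5] at h4
    exact mul_mem (mi2 hb) this

end Cfsg.Agent.S2837
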