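import Cfsg.Statements.S0836
import Cfsg.Agent.OD.Pre

set_option autoImplicit false
open Cfsg

namespace Cfsg.Agent.S0836

open scoped commutatorElement MatrixGroups

/-- For i ≠ j and any scalar c, the elementary transvection 1 + c E_ij is a commutator ⁅g, h⁆ of two elements of SL_n(F) provided n ≥ 3, or n = 2 and F contains x ≠ 0 with x² ≠ 1. -/
theorem result {F : Type*} [Field F] (n : ℕ) (hn : 3 ≤ n ∨ (n = 2 ∧ ∃ x : F, x ≠ 0 ∧ x ^ 2 ≠ 1)) (i j : Fin n) (hij : i ≠ j) (c : F) (t : Matrix.SpecialLinearGroup (Fin n) F) (ht : (t : Matrix (Fin n) (Fin n) F) = Matrix.transvection i j c) : t ∈ commutatorSet (Matrix.SpecialLinearGroup (Fin n) F) := by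
  have ht' : t = Matrix.SpecialLinearGroup.transvection hij c := Subtype.ext ht
  subst ht'
  rcases hn with hn | ⟨rfl, a, ha, hasq⟩
  · obtain ⟨k, hki, hkj⟩ : ∃ k : Fin n, k ≠ i ∧ k ≠ j := by
      have : ({i, j} : Finset (Fin n)).card < (Finset.univ : Finset (Fin n)).card := by
        have := Finset.card_le_two (a := i) (b := j)
        simp only [Finset.card_univ, Fintype.card_fin]
        omega
      obtain ⟨k, -, hk⟩ := Finset.exists_mem_notMem_of_card_lt_card this
      exact ⟨k, by simpa using hk⟩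
    refine ⟨Matrix.SpecialLinearGroup.transvection hki.symm c,
      Matrix.SpecialLinearGroup.transvection hkj 1, ?_⟩
    rw [commutatorElement_def, mul_inv_eq_iff_eq_mul, mul_inv_eq_iff_eq_mul]
    apply Subtype.ext
    simp only [Matrix.SpecialLinearGroup.coe_mul, Matrix.SpecialLinearGroup.transvection_coe,
      mul_add, add_mul, mul_one, one_mul, Matrix.single_mul_single_same,
      Matrix.single_mul_single_of_ne _ _ _ _ hij.symm,
      Matrix.single_mul_single_of_ne _ _ _ _ hkj.symm,
      add_zero]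
    abel
  · have key : ∃ b, c = b * (a ^ 2 - 1) :=
      ⟨c / (a ^ 2 - 1), (div_mul_cancel₀ c (sub_ne_zero_of_ne hasq)).symm⟩
    obtain ⟨b, hc⟩ := key
    fin_cases i
    · obtain rfl : j = 1 := by fin_cases j <;> tauto
      exact ⟨_, _, Matrix.commutator_diag2_transvection a ha b c hc⟩
    · obtain rfl : j = 0 := by fin_cases j <;> tauto
      refine ⟨Matrix.SpecialLinearGroup.diag2 a⁻¹ (inv_ne_zero ha),
        Matrix.SpecialLinearGroup.transvection one_ne_zero b, ?_⟩
      rw [commutatorElement_def, Matrix.SpecialLinearGroup.diag2_inv a⁻¹ (inv_ne_zero ha),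
        Matrix.SpecialLinearGroup.transvection_inv one_ne_zero b]
      refine Subtype.ext <| Matrix.ext fun i j ↦ ?_
      fin_cases i <;> fin_cases j <;>
      simp [hc, Matrix.SpecialLinearGroup.transvection_coe, Matrix.SpecialLinearGroup.diag2_coe,
        inv_inv, mul_add, add_mul,
        mul_inv_cancel₀ ha, inv_mul_cancel₀ ha, mul_comm a b, mul_assoc b a a, ← pow_two,
        mul_sub_one, ← sub_eq_add_neg]

end Cfsg.Agent.S0836
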