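import Cfsg.Statements.S2803
import Cfsg.Agent.OD.Pre
import Cfsg.Agent.H7.PRed

set_option autoImplicit false
set_option linter.unusedVariables false
open Cfsg

namespace Cfsg.Agent.S2803

open Subgroup CfH7 CfH9
open scoped commutatorElement


/-- Let L be a finite group and p a prime with C_L(O_p(L)) ≤ O_p(L), T a Sylow p-subgroup, and Y the largest p-reduced normal subgroup of L. Put T_L = C_T(Y) and L_T = N_L(T_L). Then L = L_T · C_L(Y) (elementwise), T_L = O_p(L_T), and Y = Ω₁(Z(T_L)). -/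
theorem result {L : Type*} [Group L] [Finite L] {p : ℕ} [Fact p.Prime] (hchar : Subgroup.centralizer (Cfsg.pCore p L : Set L) ≤ Cfsg.pCore p L) (T : Sylow p L) (Y : Subgroup L) (hY : (Cfsg.IsPReducedNormal p Y ∧ ∀ V : Subgroup L, Cfsg.IsPReducedNormal p V → V ≤ Y)) (TL : Subgroup L) (hTL : TL = (T : Subgroup L) ⊓ Subgroup.centralizer (Y : Set L)) : (∀ g : L, ∃ a ∈ Subgroup.normalizer (TL : Set L), ∃ c ∈ Subgroup.centralizer (Y : Set L), g = a * c) ∧ (Cfsg.pCore p ↥(Subgroup.normalizer (TL : Set L))).map (Subgroup.normalizer (TL : Set L)).subtype = TL ∧ Y = Cfsg.omegaOne p (TL ⊓ Subgroup.centralizer (TL : Set L)) := by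
  have hYp : PRed p Y ⊤ := isPReducedNormal_iff.mp hY.1
  have hYe : Y = largestPReducedOf p (⊤ : Subgroup L) :=
    le_antisymm hYp.le_Y (hY.2 _ (isPReducedNormal_iff.mpr (pRed_Y _)))
  subst hTL
  refine ⟨fun g => ?_, ?_, ?_⟩
  · have h1 := inf_Nm_sup_Cz (p := p) (sylIn_top T) hYp.norm
    have hg : g ∈ (⊤ ⊓ Nm((T : Subgroup L) ⊓ Cz(Y))) ⊔ Cz(Y) := by
      rw [h1]; exact mem_sup_left (mem_top g)
    obtain ⟨a, ha, c, hc, e⟩ := (mem_sup_of_le_normalizer_right
      (le_normalizer_centralizer (le_top.trans hYp.norm))).mp hg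
    exact ⟨a, ha.2, c, hc, e.symm⟩
  · have := hYp.red.pCoreOf_inf_Nm (sylIn_top T) hYp.norm
    rw [top_inf_eq] at this
    exact this
  · have := Y_eq_OZ (p := p) (chP_top_iff.mpr hchar) (sylIn_top T)
    rw [← hYe] at this
    exact this

end Cfsg.Agent.S2803
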