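import Cfsg.Statements.S2806
import Cfsg.Agent.OD.Pre
import Cfsg.Agent.H7.Kieler

set_option autoImplicit false
set_option linter.unusedVariables false
open Cfsg

namespace Cfsg.Agent.S2806

open Subgroup CfH7 CfH9
open scoped commutatorElement

theorem ps_eq {H : Type*} [Group H] [Finite H] {p : ℕ} [Fact p.Prime]
    (hH : IsOfLocalCharacteristic p H) {T L : Subgroup H} (hT : SylIn p T ⊤) (hL : L.IsSubnormal) :
    pointStabilizer p L (T ⊓ L) = pElementClosure p (L ⊓ Cz(OZ p T)) := by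
  change pElementClosure p (L ⊓ Cz(OZ p (T ⊓ L))) = _
  by_cases h : T ⊓ L = ⊥
  · have h1 := (subnIn_top_iff.mpr hL).sylIn_inf hT
    have h2 : ∀ X : Subgroup H, pElementClosure p (L ⊓ X) = ⊥ := fun X => by
      rw [eq_bot_iff, CfH8.pElementClosure_le_iff]
      intro x hx k hk
      exact (h1.max _ (isPGroup_zpowers_of_orderOf hk) (zpowers_le.mpr hx.1)
        (h.le.trans bot_le)).trans h.le (mem_zpowers x)
    rw [h2, h2]
  · rw [kieler_local hH.2 hT hL h]

/-- Let H be a finite group of local characteristic p, T a Sylow p-subgroup, and L₁, L₂ subnormal subgroups of H generating the subgroup L. Then the point stabilizer of L with respect to T ∩ L is generated by the point stabilizers of L₁ and L₂ with respect to T ∩ L₁ and T ∩ L₂ (point stabilizer of X w.r.t. R: the subgroup generated by the p-elements of X centralizing Ω₁(Z(R))). -/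
theorem result {H : Type*} [Group H] [Finite H] {p : ℕ} [Fact p.Prime] (hH : Cfsg.IsOfLocalCharacteristic p H) (T : Sylow p H) (L₁ L₂ : Subgroup H) (h₁ : L₁.IsSubnormal) (h₂ : L₂.IsSubnormal) : Cfsg.pointStabilizer p (L₁ ⊔ L₂) ((T : Subgroup H) ⊓ (L₁ ⊔ L₂)) = Cfsg.pointStabilizer p L₁ ((T : Subgroup H) ⊓ L₁) ⊔ Cfsg.pointStabilizer p L₂ ((T : Subgroup H) ⊓ L₂) := by
  have hT := sylIn_top T
  rw [ps_eq hH hT h₁, ps_eq hH hT h₂, ps_eq hH hT (CfH1.isSubnormal_sup h₁ h₂)]
  refine le_antisymm (CfH8.pElementClosure_le_iff.mpr fun x hx k hk => ?_) (sup_le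
    (closure_mono fun x hx => ⟨⟨mem_sup_left hx.1.1, hx.1.2⟩, hx.2⟩)
    (closure_mono fun x hx => ⟨⟨mem_sup_right hx.1.1, hx.1.2⟩, hx.2⟩))
  obtain ⟨h, hh, e⟩ := (hT.mono (le_Cz_OZ _) le_top).exists_le_cj (isPGroup_zpowers_of_orderOf hk)
    (zpowers_le.mpr hx.2)
  have h1 := hT.cj_top h
  have h2 : cj h (T : Subgroup H) ≤ Cz(OZ p (T : Subgroup H)) := cj_le_of_mem (le_Cz_OZ _) hh
  have h3 : x ∈ cj h (T : Subgroup H) ⊓ (L₁ ⊔ L₂) := mi (e (mem_zpowers x)) hx.1
  rw [inf_sup_subnormal h1 h₁ h₂] at h3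
  exact sup_le_sup (CfH8.le_pElementClosure (h1.pgrp.to_le inf_le_left)
    (le_inf inf_le_right (inf_le_left.trans h2))) (CfH8.le_pElementClosure
    (h1.pgrp.to_le inf_le_left) (le_inf inf_le_right (inf_le_left.trans h2))) h3

end Cfsg.Agent.S2806
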