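import Cfsg.Statements.S2810
import Cfsg.Agent.OD.Pre
import Cfsg.Agent.H7.PMin

set_option autoImplicit false
set_option linter.unusedVariables false
open Cfsg

namespace Cfsg.Agent.S2810

open Subgroup CfH7 CfH9
open scoped commutatorElement


/-- Let H be a finite group of characteristic p and L a subgroup of H centralizing every factor of some H-invariant chain 1 = A₀ ≤ A₁ ≤ … ≤ Aₙ = O_p(H) of normal subgroups (that is, [A_{i+1}, L] ≤ Aᵢ for each i). Then L ≤ O_p(H). -/
theorem result {H : Type*} [Group H] [Finite H] {p : ℕ} [Fact p.Prime] (hchar : Subgroup.centralizer (Cfsg.pCore p H : Set H) ≤ Cfsg.pCore p H) (L : Subgroup H) (n : ℕ) (A : Fin (n + 1) → Subgroup H) (h0 : A 0 = ⊥) (hn : A (Fin.last n) = Cfsg.pCore p H) (hmono : Monotone A) (hnorm : ∀ i, (A i).Normal) (hcent : ∀ i : Fin n, ⁅A i.succ, L⁆ ≤ A i.castSucc) : L ≤ Cfsg.pCore p H := by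
  have hK : ∀ i : Fin n, ⁅A i.succ, nclo L ⊤⁆ ≤ A i.castSucc := fun i => by
    haveI := hnorm i.succ
    haveI := hnorm i.castSucc
    exact commutator_nclo_le (top_le_Nm _) (top_le_Nm _) (le_Nm_normal _ _) (hcent i)
  have hp : ∀ i, IsPGroup p (A i) := fun i =>
    (isPGroup_pCore p H).to_le (hn ▸ hmono (Fin.le_last i))
  have h1 : ∀ i, pResidualOf p (nclo L ⊤) ≤ Cz(A i) := by
    intro i
    induction i using Fin.induction with
    | zero => rw [h0]; exact le_Cz_comm bot_le
    | succ i ih =>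
      haveI := hnorm i.succ
      exact pResidualOf_le_Cz_of_le' (hp _) (le_Nm_normal _ _)
        ((commutator_mono le_rfl (pResidualOf_le _)).trans (hK i)) ih
  exact (le_nclo L ⊤).trans (le_pCore inferInstance (isPGroup_of_pResidualOf_le (isPGroup_pCore p H)
    ((hn ▸ h1 (Fin.last n)).trans hchar)))

end Cfsg.Agent.S2810
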