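import Cfsg.Statements.S2813
import Cfsg.Agent.OD.Pre
import Cfsg.Agent.H7.PMin

set_option autoImplicit false
set_option linter.unusedVariables false
open Cfsg

namespace Cfsg.Agent.S2813

open Subgroup CfH7 CfH9
open scoped commutatorElement


/-- Let K be a subgroup of the finite group H with O_p(K) = 1 and Y a p-subgroup of N_H(K) with [K, Y, Y] = 1. Then [K, Y] = 1. -/
theorem result {H : Type*} [Group H] [Finite H] {p : ℕ} [Fact p.Prime] (K : Subgroup H) (hO : Cfsg.pCore p ↥K = ⊥) (Y : Subgroup H) (hY : IsPGroup p ↥Y) (hYK : Y ≤ Subgroup.normalizer (K : Set H)) (hq : ⁅⁅K, Y⁆, Y⁆ = ⊥) : ⁅K, Y⁆ = ⊥ := by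
  have h1 : nclo Y K ≤ Nm(Y) := by
    rw [nclo_eq_sup, commutator_comm]
    exact sup_le le_normalizer ((comm_eq_bot_left.mp hq).trans (Cz_le_Nm _))
  have h2 : nclo Y K ≤ pCoreOf p (nclo Y K) := nclo_le
    ((right_le_Nm_nclo _ _).trans (normalizer_le_normalizer_pCoreOf _))
    (le_pCoreOf (le_nclo _ _) h1 hY)
  have h3 : IsPGroup p (⁅K, Y⁆ : Subgroup H) := (isPGroup_pCoreOf _).to_le
    (((commutator_comm _ _).le.trans (commutator_le_nclo Y K)).trans h2)
  exact le_bot_iff.mp ((le_pCoreOf (comm_le_left hYK) (left_le_Nm_comm _ _) h3).trans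
    (pCoreOf_eq_bot_iff.mpr hO).le)

end Cfsg.Agent.S2813
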