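import Cfsg.Statements.S2814
import Cfsg.Agent.OD.Pre
import Cfsg.Agent.H7.PMin

set_option autoImplicit false
set_option linter.unusedVariables false
open Cfsg

namespace Cfsg.Agent.S2814

open Subgroup CfH7 CfH9
open scoped commutatorElement


/-- Let A be a subgroup of the finite group H and K the subnormal closure of A (intersection of the subnormal subgroups containing A). Then K is the normal closure of A inside K and N_H(A) ≤ N_H(K); K = A·O^p(K), O^p(K) being generated by the elements of K of order prime to p; and if A is a p-group, O^p(K) = [O^p(K), A]. -/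
theorem result {H : Type*} [Group H] [Finite H] {p : ℕ} [Fact p.Prime] (A : Subgroup H) (K : Subgroup H) (hK : K = Cfsg.subnormalClosure A) : (Subgroup.normalClosure ((A.subgroupOf K : Subgroup ↥K) : Set ↥K)).map K.subtype = K ∧ Subgroup.normalizer (A : Set H) ≤ Subgroup.normalizer (K : Set H) ∧ A ⊔ (Cfsg.pResidual p ↥K).map K.subtype = K ∧ (IsPGroup p ↥A → ⁅(Cfsg.pResidual p ↥K).map K.subtype, A⁆ = (Cfsg.pResidual p ↥K).map K.subtype) := by
  have hAK : A ≤ K := hK ▸ le_sInf fun _ h => h.1
  have hmin : ∀ N : Subgroup H, A ≤ N → N.IsSubnormal → K ≤ N := fun N h1 h2 =>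
    hK ▸ sInf_le ⟨h1, h2⟩
  have hsn : K.IsSubnormal := by
    obtain ⟨N, ⟨h1, h2⟩, -, h3⟩ := exists_minimal_le
      (fun N : Subgroup H => A ≤ N ∧ N.IsSubnormal) (A := ⊤) ⟨le_top, IsSubnormal.top⟩
    have : K = N := le_antisymm (hmin N h1 h2) (hK ▸ le_sInf fun X hX =>
      inf_eq_right.mp (h3 _ ⟨le_inf hX.1 h1, subnIn_top_iff.mp
        ((subnIn_top_iff.mpr hX.2).inf (subnIn_top_iff.mpr h2))⟩ inf_le_right))
    exact this ▸ h2
  have hmin' : ∀ N, A ≤ N → SubnIn N K → N = K := fun N h1 h2 =>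
    le_antisymm h2.le (hmin N h1 (h2.isSubnormal hsn))
  have h1 : nclo A K = K :=
    hmin' _ (le_nclo _ _) (subnIn_of_normal (nclo_le_of_le hAK) (right_le_Nm_nclo _ _))
  have h2 : A ⊔ pResidualOf p K = K := by
    refine hmin' _ le_sup_left ?_
    obtain ⟨T, hT⟩ := exists_sylIn p K
    have hn : T ≤ Nm(pResidualOf p K) := hT.le.trans (le_normalizer_pResidualOf K)
    have h3 : ∀ {B}, SubnIn B T → SubnIn (pResidualOf p K ⊔ B) K := fun {B} hB => by
      refine SubnIn.induction (P := fun B => SubnIn (pResidualOf p K ⊔ B) K) ?_ ?_ hB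
      · rw [sylIn_pResidualOf_sup hT]; exact SubnIn.refl K
      · intro A B hAB hn' hB ih
        refine SubnIn.step (sup_le_sup_left hAB _) (sup_le (le_sup_left.trans le_normalizer) ?_) ih
        exact le_normalizer_sup (hB.le.trans hn) hn'
    have h4 := h3 (subnIn_of_isPGroup hT.pgrp (inf_le_left : T ⊓ (A ⊔ pResidualOf p K) ≤ T))
    rwa [← inf_sup_dedekind (Or.inr hn) le_sup_right, sylIn_pResidualOf_sup hT,
      inf_eq_right.mpr (sup_le hAK (pResidualOf_le K))] at h4
  refine ⟨by rw [map_normalClosure_subgroupOf hAK, h1], fun g hg => ?_, h2, fun hA => ?_⟩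
  · refine inv_mem_iff.mp (mem_normalizer_of_cj_le (cj_le_iff.mpr (hmin _ ?_ ?_)))
    · rw [inv_inv, ← cj_eq_of_mem_normalizer hg]; exact cj_mono g hAK
    · exact hsn.map (MulAut.conj g⁻¹⁻¹).surjective
  · refine commutator_pResidualOf_eq (pResidualOf_pResidualOf K) hA
      (hAK.trans (le_normalizer_pResidualOf K)) ((pResidualOf_le K).trans (h1.ge.trans ?_))
    conv_lhs => rw [← h2, sup_comm]
    exact (nclo_sup_of_le_Nm le_normalizer (hAK.trans (le_normalizer_pResidualOf K))).le

end Cfsg.Agent.S2814
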