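import Cfsg.Statements.S2815
import Cfsg.Agent.OD.Pre
import Cfsg.Agent.H7.QSMod

set_option autoImplicit false
set_option linter.unusedVariables false
open Cfsg

namespace Cfsg.Agent.S2815

open Subgroup CfH7 CfH9
open scoped commutatorElement


/-- Let H be a finite group and p a prime dividing its order with O_p(H) = 1, and suppose K = O^p(H) (generated by the elements of order prime to p) is quasisimple. Then K = F*(H); for every nontrivial p-subgroup Y of H, K = [K, Y] and K lies in the subgroup generated by the K-conjugates of Y; every normal subgroup of H not containing K has order prime to p; and H is p-irreducible. -/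
theorem result {H : Type*} [Group H] [Finite H] {p : ℕ} [Fact p.Prime] (hp : p ∣ Nat.card H) (hO : Cfsg.pCore p H = ⊥) (hq : Cfsg.IsQuasisimple ↥(Cfsg.pResidual p H)) : Cfsg.pResidual p H = Cfsg.generalizedFittingSubgroup H ∧ (∀ Y : Subgroup H, IsPGroup p ↥Y → Y ≠ ⊥ → ⁅Cfsg.pResidual p H, Y⁆ = Cfsg.pResidual p H ∧ Cfsg.pResidual p H ≤ ⨆ k : ↥(Cfsg.pResidual p H), Y.map (MulAut.conj (k : H)).toMonoidHom) ∧ (∀ C : Subgroup H, C.Normal → ¬ Cfsg.pResidual p H ≤ C → (Nat.card ↥C).Coprime p) ∧ Cfsg.IsPIrreducible p H := by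
  have hK : IsComponent (pResidual p H) := ⟨(pResidual_normal p H).isSubnormal, hq⟩
  have hF := coprime_card_fitting_of_pCore_eq_bot hO
  have h1 : pResidual p H = generalizedFittingSubgroup H := by
    refine le_antisymm (component_le_fstar hK) (sup_le (layer_le_pResidual) ?_)
    exact le_pResidual_of_coprime hF
  have h2 : Cz(pResidual p H) ≤ fittingSubgroup H := by
    rw [h1]; exact centralizer_fstar_le_fitting
  have h3 : ∀ C : Subgroup H, C.Normal → ¬ pResidual p H ≤ C → (Nat.card C).Coprime p :=
    fun C hC hn => coprime_card_of_le ((le_Cz_comm ((component_le_or_le_centralizer hK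
      hC.isSubnormal).resolve_left hn)).trans h2) hF
  refine ⟨h1, fun Y hY hne => ?_, h3, isPIrreducible_iff_top.mpr ⟨fun e => ?_, fun N _ hN e => ?_⟩⟩
  · have h4 : ⁅pResidual p H, Y⁆ = pResidual p H := by
      refine (qs_subnIn hq (subnIn_of_normal (comm_le_left (le_Nm_normal _ _))
        (left_le_Nm_comm _ _))).resolve_left fun e => hne ?_
      have h5 : ⁅Y, pResidual p H⁆ = ⊥ := commutator_eq_bot_of_perfect (qs_perfect hq)
        (by rw [commutator_comm Y]; exact comm_eq_bot_left.mpr e)
      exact eq_bot_of_isPGroup_of_coprime hY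
        (coprime_card_of_le ((comm_eq_bot_left.mp h5).trans h2) hF)
    refine ⟨h4, h4.ge.trans ?_⟩
    rw [commutator_comm]
    exact commutator_le_nclo Y _
  · have h4 := e.coprime_of_pCoreOf_eq_bot (pCoreOf_top.trans hO)
    rw [card_top] at h4
    exact (Fact.out : p.Prime).one_lt.ne' ((Nat.coprime_self p).mp (h4.coprime_dvd_left hp))
  · rw [pResidualOf_top]
    by_contra h4
    exact e (pCl_of_coprime (h3 N (normal_of_top_le_normalizer hN) h4))

end Cfsg.Agent.S2815
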