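import Cfsg.Statements.S2816
import Cfsg.Agent.OD.Pre
import Cfsg.Agent.H7.Sec

set_option autoImplicit false
set_option linter.unusedVariables false
open Cfsg

namespace Cfsg.Agent.S2816

open Subgroup CfH7 CfH9
open scoped commutatorElement


/-- Let H be a finite group and p a prime with O_p(H) = 1, and Y a p-subgroup of H. Then for every subnormal subgroup K of H containing Y, [F*(H), Y] = [F*(K), Y] = [F*(K), Y, Y]; and if Y₀ ≤ Y with [F*(H), Y, Y₀] = 1 then Y₀ = 1 (in particular [F*(H), Y] = 1 forces Y = 1). -/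
theorem result {H : Type*} [Group H] [Finite H] {p : ℕ} [Fact p.Prime] (hO : Cfsg.pCore p H = ⊥) (Y : Subgroup H) (hY : IsPGroup p ↥Y) : (∀ K : Subgroup H, K.IsSubnormal → Y ≤ K → ⁅Cfsg.generalizedFittingSubgroup H, Y⁆ = ⁅(Cfsg.generalizedFittingSubgroup ↥K).map K.subtype, Y⁆ ∧ ⁅(Cfsg.generalizedFittingSubgroup ↥K).map K.subtype, Y⁆ = ⁅⁅(Cfsg.generalizedFittingSubgroup ↥K).map K.subtype, Y⁆, Y⁆) ∧ (∀ Y₀ : Subgroup H, Y₀ ≤ Y → ⁅⁅Cfsg.generalizedFittingSubgroup H, Y⁆, Y₀⁆ = ⊥ → Y₀ = ⊥) := by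
  have h1 := fstar_commutator_idem_top hO hY
  refine ⟨fun K hK hYK => ?_, fun Y₀ h2 h3 => eq_bot_of_quadratic_fstar hO (hY.to_le h2)
    (le_bot_iff.mp ((commutator_mono (commutator_mono le_rfl h2) le_rfl).trans h3.le))⟩
  have h2 : ⁅generalizedFittingSubgroup H, Y⁆ = ⁅fstarOf K, Y⁆ := by
    refine le_antisymm (h1.ge.trans (commutator_mono ?_ le_rfl))
      (commutator_mono (fstarOf_le_fstar_of_subnormal hK) le_rfl)
    rw [fstarOf_eq_inf_of_subnormal hK]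
    exact le_inf ((subnIn_top_iff.mpr hK).le_of_commutator_eq le_top hYK h1.ge)
      (comm_le_left (le_Nm_normal _ _))
  refine ⟨h2, ?_⟩
  change ⁅fstarOf K, Y⁆ = ⁅⁅fstarOf K, Y⁆, Y⁆
  rw [← h2, h1]

end Cfsg.Agent.S2816
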