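import Cfsg.Statements.S2817
import Cfsg.Agent.OD.Pre
import Cfsg.Agent.H7.Sec

set_option autoImplicit false
set_option linter.unusedVariables false
open Cfsg

namespace Cfsg.Agent.S2817

open Subgroup CfH7 CfH9
open scoped commutatorElement


/-- Let H be a finite group and p a prime with O_p(H) = 1, Q a p-subgroup of H, L = [F*(H), Q], and F the largest normal subgroup of F*(H) centralized by Q (a normal subgroup of F*(H) centralized by Q and containing every such). Then F = C_{F*(H)}(LQ); L = [L, Q]; L ∩ F ≤ Φ(L); every p-subgroup B of N_H(Q) with [L, B] ≤ F satisfies [L, B] = 1; and C_H(FL) has order prime to p. -/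
theorem result {H : Type*} [Group H] [Finite H] {p : ℕ} [Fact p.Prime] (hO : Cfsg.pCore p H = ⊥) (Q : Subgroup H) (hQ : IsPGroup p ↥Q) (L : Subgroup H) (hL : L = ⁅Cfsg.generalizedFittingSubgroup H, Q⁆) (F : Subgroup H) (hF : F ≤ Cfsg.generalizedFittingSubgroup H ∧ Cfsg.generalizedFittingSubgroup H ≤ Subgroup.normalizer (F : Set H) ∧ Q ≤ Subgroup.centralizer (F : Set H) ∧ ∀ N : Subgroup H, N ≤ Cfsg.generalizedFittingSubgroup H → Cfsg.generalizedFittingSubgroup H ≤ Subgroup.normalizer (N : Set H) → Q ≤ Subgroup.centralizer (N : Set H) → N ≤ F) : F = Cfsg.generalizedFittingSubgroup H ⊓ Subgroup.centralizer ((L ⊔ Q : Subgroup H) : Set H) ∧ ⁅L, Q⁆ = L ∧ L ⊓ F ≤ (frattini ↥L).map L.subtype ∧ (∀ B : Subgroup H, IsPGroup p ↥B → B ≤ Subgroup.normalizer (Q : Set H) → ⁅L, B⁆ ≤ F → ⁅L, B⁆ = ⊥) ∧ (Nat.card ↥(Subgroup.centralizer ((F ⊔ L : Subgroup H) : Set H))).Coprime p := by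
  obtain ⟨hF1, hF2, hF3, hF4⟩ := hF
  have h1 : ⁅L, Q⁆ = L := by rw [hL]; exact fstar_commutator_idem_top hO hQ
  have hLE : L ≤ generalizedFittingSubgroup H := hL.le.trans (comm_le_left (le_Nm_normal _ _))
  have hEL : generalizedFittingSubgroup H ≤ Nm(L) := by rw [hL]; exact left_le_Nm_comm _ _
  have hQL : Q ≤ Nm(L) := by rw [hL]; exact right_le_Nm_comm _ _
  have h2 : L ⊔ Q = nclo Q (generalizedFittingSubgroup H) := by
    rw [nclo_eq_sup, commutator_comm, ← hL, sup_comm]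
  have h3 : F = generalizedFittingSubgroup H ⊓ Cz(L ⊔ Q) := by
    refine le_antisymm (le_inf hF1 (by rw [h2]; exact le_Cz_comm (nclo_le_Cz hF2 hF3)))
      (hF4 _ inf_le_left (le_normalizer_inf le_normalizer (le_normalizer_centralizer ?_))
      (le_Cz_comm (inf_le_right.trans (Cz_anti le_sup_right))))
    rw [h2]; exact right_le_Nm_nclo _ _
  have hFL : F ≤ Cz(L) := h3.le.trans (inf_le_right.trans (Cz_anti le_sup_left))
  have hs : SubnIn L ⊤ := SubnIn.step hLE hEL (subnIn_of_normal le_top (top_le_Nm _))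
  have h4 : fstarOf L = L := hs.fstarOf_eq_self (hLE.trans fstarOf_top.ge)
  have h5 : pCoreOf p L = ⊥ := hs.pCoreOf_eq_bot (pCoreOf_top.trans hO)
  have h6 : L ⊓ F ≤ (frattini L).map L.subtype := by
    refine le_trans (le_inf (inf_le_right.trans hFL) ((inf_le_inf_left _ (le_Cz_comm hF3)).trans
      (inf_Cz_le_commutator_of_coprime hQL (fittingOf_le L) (h4.ge.trans ?_)
      (CfH8.coprime_card_of_isPGroup' hQ (coprime_card_fittingOf h5)).symm h1)))
      (inf_Cz_inf_commutator_le_frattiniOf L)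
    rw [fstarOf_eq, sup_comm]
    exact sup_le_sup_left ((layerOf_perfect L).ge.trans
      (commutator_mono (layerOf_le L) (layerOf_le L))) _
  refine ⟨h3, h1, h6, fun B hB hBQ hBF => ?_, ?_⟩
  · have hBL : B ≤ Nm(L) := by rw [hL]; exact le_normalizer_commutator (le_Nm_normal _ _) hBQ
    have h7 := CfH1.eq_of_sup_eq_of_le_frattiniOf ((le_inf (comm_le_left hBL) hBF).trans h6)
      (fstar_split h4 h5 hB hBL)
    exact comm_eq_bot_left.mpr (h7.ge.trans inf_le_right)
  · by_contra hc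
    have hQF : Q ≤ Nm(F) := hF3.trans (Cz_le_Nm _)
    have hQC : Q ≤ Nm(Cz(F ⊔ L)) := le_normalizer_centralizer (le_normalizer_sup hQF hQL)
    obtain ⟨S, hS, hQS⟩ := exists_sylIn_ge hQ (le_sup_right : Q ≤ Cz(F ⊔ L) ⊔ Q)
    have hS2 := hS.inf_normal' (sup_le le_normalizer hQC) le_sup_left
    have h7 : S ⊓ Cz(F ⊔ L) ≠ ⊥ := hS2.ne_bot_iff.mpr (by
      by_contra h8
      exact hc ((Nat.Prime.coprime_iff_not_dvd Fact.out).mpr h8).symm)
    refine inf_Cz_ne_bot hQ hS2.pgrp (le_normalizer_inf (hQS.trans le_normalizer) hQC) h7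
      (eq_bot_of_quadratic_fstar hO (hS2.pgrp.to_le inf_le_left) ?_)
    have h8 : S ⊓ Cz(F ⊔ L) ⊓ Cz(Q) ≤ Cz(F ⊔ L) := inf_le_left.trans inf_le_right
    have h9 : S ⊓ Cz(F ⊔ L) ⊓ Cz(Q) ≤ Cz(Q) := inf_le_right
    generalize S ⊓ Cz(F ⊔ L) ⊓ Cz(Q) = B at h8 h9
    refine comm_eq_bot_right.mpr (h8.trans (Cz_anti (le_trans (hF4 _ (comm_le_left (le_Nm_normal _ _))
      (left_le_Nm_comm _ _) (comm_eq_bot_right.mp ?_)) le_sup_left)))
    refine commutator_commutator_eq_bot_of_rotate ?_ ?_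
    · rw [comm_eq_bot_left.mpr h9, commutator_bot_left]
    · rw [commutator_comm Q, ← hL]
      exact comm_eq_bot_right.mpr (h8.trans (Cz_anti le_sup_right))

end Cfsg.Agent.S2817
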