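import Cfsg.Statements.S2818
import Cfsg.Agent.OD.Pre
import Cfsg.Agent.H7.PMin

set_option autoImplicit false
set_option linter.unusedVariables false
open Cfsg

namespace Cfsg.Agent.S2818

open Subgroup CfH7 CfH9
open scoped commutatorElement


/-- Let P be a finite p-subgroup of a group G and H a subgroup of N_G(P) with [P, H] ≤ Ω₁(Z(P)) (the elements of order dividing p in the centre of P). Then H centralizes the Frattini subgroup of P. -/
theorem result {G : Type*} [Group G] [Finite G] {p : ℕ} [Fact p.Prime] (P : Subgroup G) (hP : IsPGroup p ↥P) (H : Subgroup G) (hH : H ≤ Subgroup.normalizer (P : Set G)) (h : ⁅P, H⁆ ≤ Cfsg.omegaOne p (P ⊓ Subgroup.centralizer (P : Set G))) : ⁅(frattini ↥P).map P.subtype, H⁆ = ⊥ := by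
  change ⁅P, H⁆ ≤ OZ p P at h
  rw [comm_eq_bot_left]
  refine CfH1.frattiniOf_le_of_commutator_le_of_pow_mem (p := p) ?_ fun x hx => ?_
  · rw [← comm_eq_bot_left]
    refine commutator_commutator_eq_bot_of_rotate ?_ ?_
    · exact comm_eq_bot_left.mpr (h.trans (OZ_le_Cz P))
    · rw [commutator_comm H P]; exact comm_eq_bot_left.mpr (h.trans (OZ_le_Cz P))
  · intro y hy
    have h1 := mem_OZ.mp (h (commutator_mem_commutator hx hy))
    have h2 : Commute ⁅x, y⁆ x := (h1.1.2 x hx).symm
    have h3 : y * x * y⁻¹ = ⁅x, y⁆⁻¹ * x := by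
      simp only [commutatorElement_def]; group
    have h4 : y * x ^ p * y⁻¹ = x ^ p := by
      rw [← conj_pow, h3, h2.inv_left.mul_pow, inv_pow, h1.2, inv_one, one_mul]
    exact mul_inv_eq_iff_eq_mul.mp h4

end Cfsg.Agent.S2818
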