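import Cfsg.Statements.S2819
import Cfsg.Agent.OD.Pre
import Cfsg.Agent.H7.QSMod
import Cfsg.Agent.H1.Frattini

set_option autoImplicit false
set_option linter.unusedVariables false
open Cfsg

namespace Cfsg.Agent.S2819

open Subgroup CfH7 CfH9
open scoped commutatorElement

theorem pow_mul_inv_mem {G : Type*} [Group G] {P : Subgroup G} {c x : G} (hc : c ∈ P) (hx : x ∈ P)
    {n : ℕ} (h : c ^ n = 1) : (c * x) ^ n * (x ^ n)⁻¹ ∈ ⁅P, P⁆ := by
  have h1 : ((⟨c, hc⟩ : P) * ⟨x, hx⟩) ^ n * ((⟨x, hx⟩ : P) ^ n)⁻¹ ∈ commutator P := by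
    rw [← Abelianization.ker_of, MonoidHom.mem_ker, map_mul, map_inv, map_pow, map_pow, map_mul,
      mul_pow, mul_inv_cancel_right, ← map_pow]
    rw [show (⟨c, hc⟩ : P) ^ n = 1 from Subtype.ext h, map_one]
  rw [← map_subtype_commutator]
  exact mem_map_of_mem P.subtype h1

/-- Let P be a finite p-subgroup of a group G, H a subgroup of N_G(P), and Y a subgroup of H centralizing the derived subgroup P' such that [P, Y] is elementary abelian. Then O^p(⟨Y^H⟩), the subgroup of the normal closure of Y in H generated by its elements of order prime to p, centralizes the Frattini subgroup of P. -/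
theorem result {G : Type*} [Group G] [Finite G] {p : ℕ} [Fact p.Prime] (P : Subgroup G) (hP : IsPGroup p ↥P) (H : Subgroup G) (hH : H ≤ Subgroup.normalizer (P : Set G)) (Y : Subgroup G) (hYH : Y ≤ H) (hYc : Y ≤ Subgroup.centralizer ((⁅P, P⁆ : Subgroup G) : Set G)) (hel : Cfsg.IsElementaryAbelian p ⁅P, Y⁆) (NY : Subgroup G) (hNY : NY = (Subgroup.normalClosure ((Y.subgroupOf H : Subgroup ↥H) : Set ↥H)).map H.subtype) : (Cfsg.pResidual p ↥NY).map NY.subtype ≤ Subgroup.centralizer (((frattini ↥P).map P.subtype : Subgroup G) : Set G) := by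
  subst hNY
  rw [map_normalClosure_subgroupOf hYH]
  have hYP : Y ≤ Nm(P) := hYH.trans hH
  have h1 : (frattini P).map P.subtype ≤ secCz Y ⁅P, P⁆ := by
    refine CfH1.frattiniOf_le_of_commutator_le_of_pow_mem (p := p)
      (le_secCz le_normalizer ((comm_eq_bot_left.mpr hYc).le.trans bot_le)) fun x hx => ?_
    refine ⟨left_le_Nm_comm P P (pow_mem hx p), fun r hr => ?_⟩
    have h2 : ⁅r, x⁆ ∈ ⁅P, Y⁆ := by
      rw [commutator_comm]; exact commutator_mem_commutator hr hx
    have h3 := pow_mul_inv_mem (comm_le_left hYP h2) hx (hel.2 _ h2)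
    have h4 : ⁅r, x ^ p⁆ = (⁅r, x⁆ * x) ^ p * (x ^ p)⁻¹ := by
      rw [commutatorElement_def, commutatorElement_def, inv_mul_cancel_right, conj_pow]
    rwa [h4]
  have hHΦ : H ≤ Nm((frattini P).map P.subtype) := hH.trans (Nm_le_Nm_char _)
  have hHP' : H ≤ Nm(⁅P, P⁆) := le_normalizer_commutator hH hH
  refine pResidualOf_le_Cz_of_le (M := ⁅P, P⁆) (hP.to_le (map_subtype_le _))
    ((nclo_le_of_le hYH).trans hHΦ) (commutator_nclo_le hHΦ hHP' (hYH.trans hHP') ?_)
    (nclo_le_Cz hHP' hYc)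
  rw [commutator_comm]
  exact commutator_le_of_le_secCz h1

end Cfsg.Agent.S2819
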