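import Cfsg.Statements.S2823
import Cfsg.Agent.OD.Pre
import Cfsg.Agent.H7.PRed

set_option autoImplicit false
set_option linter.unusedVariables false
open Cfsg

namespace Cfsg.Agent.S2823

open Subgroup CfH7 CfH9
open scoped commutatorElement


/-- Let H be a finite group, p a prime, T a Sylow p-subgroup and L a subgroup of characteristic p containing T; let Z_L be the subgroup generated by the Ω₁(Z(S)) over the Sylow p-subgroups S of L and O^p(L) the subgroup generated by the elements of L of order prime to p. Then Z_L = Ω₁(Z(L))·[Z_L, O^p(L)] and [Z_L, L] = [Z_L, O^p(L)]. -/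
theorem result {H : Type*} [Group H] [Finite H] {p : ℕ} [Fact p.Prime] (T : Sylow p H) (L : Subgroup H) (hTL : (T : Subgroup H) ≤ L) (hL : Subgroup.centralizer (Cfsg.pCore p ↥L : Set ↥L) ≤ Cfsg.pCore p ↥L) : Cfsg.sylowCenterClosure p L = (Cfsg.omegaOne p (L ⊓ Subgroup.centralizer ((L : Subgroup H) : Set H))) ⊔ ⁅Cfsg.sylowCenterClosure p L, (Cfsg.pResidual p ↥L).map L.subtype⁆ ∧ ⁅Cfsg.sylowCenterClosure p L, L⁆ = ⁅Cfsg.sylowCenterClosure p L, (Cfsg.pResidual p ↥L).map L.subtype⁆ := by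
  have hT := sylIn_sylow_of_le T hTL
  have hZ := pRed_sylowCenterClosure (p := p) hL
  set Z := sylowCenterClosure p L with hZdef
  change Z = OZ p L ⊔ ⁅Z, pResidualOf p L⁆ ∧ ⁅Z, L⁆ = ⁅Z, pResidualOf p L⁆
  have hN : L ≤ Nm(⁅Z, pResidualOf p L⁆) :=
    le_normalizer_commutator hZ.norm (le_normalizer_pResidualOf L)
  have hOZ : OZ p L ≤ Z := by
    refine le_trans ?_ (OZ_le_sylowCenterClosure hT)
    refine le_OZ (elemAb_OZ L) (hT.le_of_le_Nm (elemAb_isPGroup (elemAb_OZ L)) (OZ_le L)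
      (hTL.trans (le_normalizer.trans (Nm_le_Nm_OZ L)))) ((OZ_le_Cz L).trans (Cz_anti hTL))
  have h1 : OZ p (T : Subgroup H) ≤ OZ p L ⊔ ⁅Z, pResidualOf p L⁆ := by
    refine (le_inf (OZ_le_sylowCenterClosure hT) (OZ_le_Cz _)).trans
      ((inf_Cz_le_commutator_pResidualOf_sup hZ.elem.1 hZ.isPGroup hZ.norm hT).trans ?_)
    rw [sup_comm]
    exact sup_le_sup_right (le_OZ (elemAb_of_le inf_le_left hZ.elem) (inf_le_left.trans hZ.le)
      inf_le_right) _
  have h2 : Z = OZ p L ⊔ ⁅Z, pResidualOf p L⁆ := by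
    apply le_antisymm
    · have := nclo_le (H := L) (le_normalizer_sup (le_normalizer.trans (Nm_le_Nm_OZ L)) hN) h1
      rw [← sylowCenterClosure_eq_nclo hT] at this
      exact this
    · exact sup_le hOZ (comm_le_left ((pResidualOf_le L).trans hZ.norm))
  refine ⟨h2, le_antisymm ?_ (commutator_mono le_rfl (pResidualOf_le L))⟩
  have hZN : Z ≤ Nm(⁅Z, pResidualOf p L⁆) := left_le_Nm_comm _ _
  conv_lhs => rw [h2]
  refine commutator_sup_left_le (hOZ.trans hZN) le_normalizer ?_ (comm_le_left hN)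
  rw [comm_eq_bot_left.mpr (OZ_le_Cz L)]
  exact bot_le

end Cfsg.Agent.S2823
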