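import Cfsg.Statements.S2824
import Cfsg.Agent.OD.Pre
import Cfsg.Agent.H7.PRed

set_option autoImplicit false
set_option linter.unusedVariables false
open Cfsg

namespace Cfsg.Agent.S2824

open Subgroup CfH7 CfH9
open scoped commutatorElement


/-- Let H be a finite group, p a prime, T a Sylow p-subgroup, L and M subgroups of characteristic p containing T, Y_L the largest p-reduced normal subgroup of L and T₀ = C_T(Y_L). If M·C_H(Y_L) = L·C_H(Y_L), then L* := N_M(T₀) has Y_{L*} = Y_L and L·C_H(Y_L) = L*·C_H(Y_L). -/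
theorem result {H : Type*} [Group H] [Finite H] {p : ℕ} [Fact p.Prime] (T : Sylow p H) (L M : Subgroup H) (hTL : (T : Subgroup H) ≤ L) (hTM : (T : Subgroup H) ≤ M) (hL : Subgroup.centralizer (Cfsg.pCore p ↥L : Set ↥L) ≤ Cfsg.pCore p ↥L) (hM : Subgroup.centralizer (Cfsg.pCore p ↥M : Set ↥M) ≤ Cfsg.pCore p ↥M) (T₀ : Subgroup H) (hT₀ : T₀ = (T : Subgroup H) ⊓ Subgroup.centralizer (((Cfsg.largestPReducedOf p L) : Subgroup H) : Set H)) (hfac : M ⊔ Subgroup.centralizer (((Cfsg.largestPReducedOf p L) : Subgroup H) : Set H) = L ⊔ Subgroup.centralizer (((Cfsg.largestPReducedOf p L) : Subgroup H) : Set H)) (Ls : Subgroup H) (hLs : Ls = M ⊓ Subgroup.normalizer ((T₀ : Subgroup H) : Set H)) : (Cfsg.largestPReducedOf p Ls) = (Cfsg.largestPReducedOf p L) ∧ L ⊔ Subgroup.centralizer (((Cfsg.largestPReducedOf p L) : Subgroup H) : Set H) = Ls ⊔ Subgroup.centralizer (((Cfsg.largestPReducedOf p L) : Subgroup H) : Set H) := by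
  subst hT₀ hLs
  have hY := pRed_Y (p := p) L
  set Y := largestPReducedOf p L with hYdef
  have hTL' := sylIn_sylow_of_le T hTL
  have hTM' := sylIn_sylow_of_le T hTM
  have hYT : Y ≤ (T : Subgroup H) := (Y_le_pCoreOf L).trans (sylIn_pCoreOf_le hTL')
  have hYM : PRed p Y M := hY.of_sup_Cz_eq (hYT.trans hTM) hfac
  have h1 := inf_Nm_sup_Cz hTM' hYM.norm
  have h2 := hYM.red.pCoreOf_inf_Nm hTM' hYM.norm
  have h3 := le_inf_Nm_inf_Cz (T := (T : Subgroup H)) hTM hYM.norm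
  refine ⟨le_antisymm ?_ (hYM.of_sup_Cz_eq (hYT.trans h3) h1).le_Y, by rw [h1, hfac]⟩
  refine (Y_le_OZ _).trans ?_
  rw [h2]
  exact (Y_eq_OZ hL hTL').ge

end Cfsg.Agent.S2824
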