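import Cfsg.Statements.S2826
import Cfsg.Agent.OD.Pre
import Cfsg.Agent.H7.PRed

set_option autoImplicit false
set_option linter.unusedVariables false
open Cfsg

namespace Cfsg.Agent.S2826

open Subgroup CfH7 CfH9
open scoped commutatorElement


/-- Let H be a finite group of characteristic p, T a Sylow p-subgroup, and V a normal elementary abelian p-subgroup of H containing Ω₁(Z(T)). Then C_H(Ω₁(Z(T))) = C_H([V, O^p(H)] ∩ Ω₁(Z(T))), O^p(H) being generated by the elements of order prime to p. -/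
theorem result {H : Type*} [Group H] [Finite H] {p : ℕ} [Fact p.Prime] (hH : Subgroup.centralizer (Cfsg.pCore p H : Set H) ≤ Cfsg.pCore p H) (T : Sylow p H) (V : Subgroup H) [V.Normal] (hV : Cfsg.IsElementaryAbelian p V) (hZV : (Cfsg.omegaOne p ((T : Subgroup H) ⊓ Subgroup.centralizer (((T : Subgroup H) : Subgroup H) : Set H))) ≤ V) : Subgroup.centralizer ((Cfsg.omegaOne p ((T : Subgroup H) ⊓ Subgroup.centralizer (((T : Subgroup H) : Subgroup H) : Set H))) : Set H) = Subgroup.centralizer (((⁅V, Cfsg.pResidual p H⁆ ⊓ (Cfsg.omegaOne p ((T : Subgroup H) ⊓ Subgroup.centralizer (((T : Subgroup H) : Subgroup H) : Set H)))) : Subgroup H) : Set H) := by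
  change Cz(OZ p (T : Subgroup H)) = Cz(⁅V, pResidual p H⁆ ⊓ OZ p (T : Subgroup H))
  refine le_antisymm (Cz_anti inf_le_right) ?_
  have hVn : (⊤ : Subgroup H) ≤ Nm(V) := normal_iff_top_le_Nm.mp inferInstance
  have h1 := inf_Cz_le_commutator_pResidualOf_sup hV.1 (elemAb_isPGroup hV) hVn (sylIn_top T)
  rw [pResidualOf_top] at h1
  have hVT : V ≤ (T : Subgroup H) := (le_pCore inferInstance (elemAb_isPGroup hV)).trans (pCore_le_sylow T)
  have h2 : V ⊓ Cz((⊤ : Subgroup H)) ≤ OZ p (T : Subgroup H) :=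
    le_OZ (elemAb_of_le inf_le_left hV) (inf_le_left.trans hVT)
      (inf_le_right.trans (Cz_anti le_top))
  have h3 : OZ p (T : Subgroup H) ≤ (⁅V, pResidual p H⁆ ⊓ OZ p (T : Subgroup H)) ⊔ (V ⊓ Cz((⊤ : Subgroup H))) := by
    rw [← sup_inf_of_le_normalizer' (le_normalizer_inf (le_top.trans hVn)
      (le_normalizer_centralizer (le_top.trans le_normalizer))) h2]
    exact le_inf ((le_inf hZV (OZ_le_Cz _)).trans h1) le_rfl
  refine le_trans ?_ (Cz_anti h3)
  rw [Cz_sup]
  exact le_inf le_rfl (le_Cz_comm (inf_le_right.trans (Cz_anti le_top)))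

end Cfsg.Agent.S2826
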