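import Cfsg.Statements.S2828
import Cfsg.Agent.OD.Pre
import Cfsg.Agent.H7.PIrr

set_option autoImplicit false
set_option linter.unusedVariables false
open Cfsg

namespace Cfsg.Agent.S2828

open Subgroup CfH7 CfH9
open scoped commutatorElement


/-- Let H be a finite group, p a prime and D a normal p-subgroup of H. Then H is p-irreducible if and only if H/D is p-irreducible, and H is strongly p-irreducible if and only if H/D is strongly p-irreducible. -/
theorem result {H : Type*} [Group H] [Finite H] {p : ℕ} [Fact p.Prime] (D : Subgroup H) [D.Normal] (hD : IsPGroup p ↥D) : (Cfsg.IsPIrreducible p H ↔ Cfsg.IsPIrreducible p (H ⧸ D)) ∧ (Cfsg.IsStronglyPIrreducible p H ↔ Cfsg.IsStronglyPIrreducible p (H ⧸ D)) := by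
  have hk : IsPGroup p ((⊤ : Subgroup H) ⊓ (QuotientGroup.mk' D).ker : Subgroup H) := by
    rw [QuotientGroup.ker_mk', top_inf_eq]; exact hD
  have e : (⊤ : Subgroup H).map (QuotientGroup.mk' D) = ⊤ :=
    map_top_of_surjective _ (QuotientGroup.mk'_surjective D)
  rw [isPIrreducible_iff_top, isPIrreducible_iff_top, isStronglyPIrreducible_iff_top,
    isStronglyPIrreducible_iff_top, ← e]
  exact ⟨(pIrr_map_iff hk).symm, (sPIrr_map_iff hk).symm⟩

end Cfsg.Agent.S2828
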