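import Cfsg.Statements.S2832
import Cfsg.Agent.OD.Pre
import Cfsg.Agent.H7.PIrr

set_option autoImplicit false
set_option linter.unusedVariables false
open Cfsg

namespace Cfsg.Agent.S2832

open Subgroup CfH7 CfH9
open scoped commutatorElement


/-- Let H be a finite group with Sylow p-subgroup T such that H is T-minimal (generated by the conjugates of T, with T in exactly one maximal subgroup), and let N be a normal subgroup of H. Then either H/N is a p-group or H/N is minimal over the image of T in the same sense. -/
theorem result {H : Type*} [Group H] [Finite H] {p : ℕ} [Fact p.Prime] (T : Sylow p H) (hmin : Cfsg.IsMinimalOver (T : Subgroup H)) (N : Subgroup H) [N.Normal] : IsPGroup p (H ⧸ N) ∨ Cfsg.IsMinimalOver ((T : Subgroup H).map (QuotientGroup.mk' N)) := by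
  obtain ⟨M, h⟩ := isMinimalOver_iff_top.mp hmin
  rcases h.pResidualOf_le_or T.isPGroup' le_top (top_le_Nm N) with h1 | h1
  · rw [pResidualOf_top] at h1
    exact Or.inl (isPGroup_quotient_of_pResidual_le h1)
  · have h2 := h.map (QuotientGroup.mk' N) (by rw [QuotientGroup.ker_mk', top_inf_eq]; exact h1)
    rw [map_top_of_surjective _ (QuotientGroup.mk'_surjective N)] at h2
    exact Or.inr (isMinimalOver_iff_top.mpr ⟨_, h2⟩)

end Cfsg.Agent.S2832
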