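import Cfsg.Statements.S2833
import Cfsg.Agent.OD.Pre
import Cfsg.Agent.H7.PIrr

set_option autoImplicit false
set_option linter.unusedVariables false
open Cfsg

namespace Cfsg.Agent.S2833

open Subgroup CfH7 CfH9
open scoped commutatorElement


/-- Let V be a subgroup of a finite group G normalized by the subgroup L, let X ≤ L and g ∈ L with [V, X, X] = 1 and L generated by X and gXg⁻¹. Put W = [V, L]. Then W = [V, X]·[V, gXg⁻¹], C_W(X) = [V, X], and C_W(L) = [V, X] ∩ [V, gXg⁻¹]. -/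
theorem result {G : Type*} [Group G] [Finite G] (V L : Subgroup G) (hLV : L ≤ Subgroup.normalizer (V : Set G)) (X : Subgroup G) (hX : X ≤ L) (g : G) (hg : g ∈ L) (hq : ⁅⁅V, X⁆, X⁆ = ⊥) (hgen : X ⊔ X.map (MulAut.conj g).toMonoidHom = L) (W : Subgroup G) (hW : W = ⁅V, L⁆) : ⁅V, X⁆ ⊔ ⁅V, X.map (MulAut.conj g).toMonoidHom⁆ = W ∧ W ⊓ Subgroup.centralizer (X : Set G) = ⁅V, X⁆ ∧ W ⊓ Subgroup.centralizer (L : Set G) = ⁅V, X⁆ ⊓ ⁅V, X.map (MulAut.conj g).toMonoidHom⁆ := by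
  change ⁅V, X⁆ ⊔ ⁅V, cj g X⁆ = W ∧ W ⊓ Cz(X) = ⁅V, X⁆ ∧ W ⊓ Cz(L) = ⁅V, X⁆ ⊓ ⁅V, cj g X⁆
  change X ⊔ cj g X = L at hgen
  subst hW
  have hXV := hX.trans hLV
  have hX' : cj g X ≤ L := cj_le_of_mem hX hg
  have hXV' := hX'.trans hLV
  have hU : ⁅V, X⁆ ⊔ ⁅V, cj g X⁆ ≤ V := sup_le (comm_le_left hXV) (comm_le_left hXV')
  have h1 : ⁅V, X⁆ ⊔ ⁅V, cj g X⁆ = ⁅V, L⁆ := by
    refine le_antisymm (sup_le (commutator_mono le_rfl hX) (commutator_mono le_rfl hX')) ?_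
    rw [← hgen]
    exact commutator_sup_right_le
      (le_Nm_of_comm_le_left ((commutator_mono hU le_rfl).trans le_sup_left))
      (le_Nm_of_comm_le_left ((commutator_mono hU le_rfl).trans le_sup_right))
      le_sup_left le_sup_right
  have e : ∀ x ∈ L, cj x ⁅V, X⁆ = ⁅V, cj x X⁆ := fun x hx => by
    rw [cj_commutator, cj_eq_of_mem_normalizer (hLV hx)]
  have hq1 : ⁅V, X⁆ ≤ Cz(X) := comm_eq_bot_left.mp hq
  have hq2 : ⁅V, cj g X⁆ ≤ Cz(cj g X) := by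
    rw [← e g hg, ← cj_centralizer]; exact cj_mono g hq1
  have h2 : ⁅V, L⁆ ⊓ Cz(X) = ⁅V, X⁆ := by
    refine le_antisymm ?_ (le_inf (commutator_mono le_rfl hX) hq1)
    rw [← h1, inf_sup_dedekind (Or.inl ((comm_le_left hXV).trans (left_le_Nm_comm _ _))) hq1]
    refine sup_le le_rfl ?_
    have h3 : ⁅V, cj g X⁆ ⊓ Cz(X) ≤ Cz(L) := by
      rw [← hgen, Cz_sup]; exact le_inf inf_le_right (inf_le_left.trans hq2)
    rw [← cj_le_cj_iff (g := g), cj_eq_of_mem_centralizer (le_Cz_comm h3 hg), e g hg]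
    exact inf_le_left
  refine ⟨h1, h2, ?_⟩
  have h4 : ⁅V, L⁆ ⊓ Cz(cj g X) = ⁅V, cj g X⁆ := by
    rw [← e g hg, ← h2, cj_inf, cj_centralizer,
      cj_eq_of_mem_normalizer (right_le_Nm_comm V L hg)]
  conv_lhs => rw [← hgen, Cz_sup, hgen]
  rw [inf_inf_distrib_left, h2, h4]

end Cfsg.Agent.S2833
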