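import Cfsg.Statements.S2836
import Cfsg.Agent.OD.Pre
import Cfsg.Agent.H7.PIrr

set_option autoImplicit false
set_option linter.unusedVariables false
open Cfsg

namespace Cfsg.Agent.S2836

open Subgroup CfH7 CfH9
open scoped commutatorElement


/-- Let L be a finite group, L₀ a maximal subgroup, T a Sylow p-subgroup of L₀, Y ≤ T, and suppose L is Y-minimal. Let D be the intersection of the conjugates of L₀ (the core of L₀). Then D contains O_p(L) and D/O_p(L) is the Frattini subgroup of L/O_p(L), so D is p-closed; and every normal subgroup N of L contained in L₀ is p-closed with N/O_p(N) a nilpotent group of order prime to p. -/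
theorem result {L : Type*} [Group L] [Finite L] {p : ℕ} [Fact p.Prime] (L₀ : Subgroup L) (hL₀ : IsCoatom L₀) (T : Sylow p ↥L₀) (Y : Subgroup L) (hYT : Y ≤ (T : Subgroup ↥L₀).map L₀.subtype) (hmin : Cfsg.IsMinimalOver Y) : (Cfsg.pCore p L ≤ L₀.normalCore ∧ (L₀.normalCore).map (QuotientGroup.mk' (Cfsg.pCore p L)) = frattini (L ⧸ Cfsg.pCore p L) ∧ Cfsg.IsPClosed p ↥(L₀.normalCore)) ∧ ∀ (N : Subgroup L) [N.Normal], N ≤ L₀ → Cfsg.IsPClosed p ↥N ∧ Group.IsNilpotent (↥N ⧸ Cfsg.pCore p ↥N) ∧ (Nat.card (↥N ⧸ Cfsg.pCore p ↥N)).Coprime p := by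
  have hT := sylIn_of_sylow T
  have h := minOver_of_isMinimalOver hmin hL₀ (hYT.trans hT.le)
  have hY := hT.pgrp.to_le hYT
  have hO : pCore p L ≤ L₀ := by rw [← pCoreOf_top]; exact h.pCoreOf_le hY
  have hOD : pCore p L ≤ L₀.normalCore := normal_le_normalCore.mpr hO
  have key : ∀ (N : Subgroup L) [N.Normal], N ≤ L₀ →
      N.map (QuotientGroup.mk' (pCore p L)) ≤ frattini (L ⧸ pCore p L) := by
    intro N _ hN
    refine CfH1.le_frattini_iff.mpr fun K hK => ?_
    rw [map_le_iff_le_comap]
    have hK' := isCoatom_comap_of_surjective (QuotientGroup.mk'_surjective (pCore p L)) hK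
    by_contra hne
    refine hK'.1 (h.le_of_pCoreOf_le hY hN (top_le_Nm N) le_top ?_ ?_)
    · rw [pCoreOf_top]; exact CfH1.le_comap_mk' _ _
    · rw [sup_comm]; exact CfH1.sup_eq_top_of_isCoatom hK' hne
  refine ⟨⟨hOD, le_antisymm (key _ L₀.normalCore_le) ?_,
    isPClosed_iff.mpr (h.pCl_of_normal hY L₀.normalCore_le (top_le_Nm _))⟩, fun N _ hN => ?_⟩
  · rw [← map_comap_eq_self_of_surjective (QuotientGroup.mk'_surjective (pCore p L))
      (frattini (L ⧸ pCore p L))]
    refine map_mono (normal_le_normalCore.mpr ?_)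
    have h1 := CfH1.le_frattini_iff.mp le_rfl _ (CfH1.isCoatom_map_mk' hO hL₀)
    refine (comap_mono h1).trans ?_
    rw [QuotientGroup.comap_map_mk', sup_eq_right.mpr hO]
  · have hc := h.pCl_of_normal hY hN (top_le_Nm N)
    refine ⟨isPClosed_iff.mpr hc, ?_, ?_⟩
    · have h1 : Group.IsNilpotent (N.map (QuotientGroup.mk' (pCore p L))) :=
        isNilpotent_of_le (key N hN) frattini_nilpotent
      let f : N →* N.map (QuotientGroup.mk' (pCore p L)) := (QuotientGroup.mk' (pCore p L)).subgroupMap N
      have hf : Function.Surjective f := MonoidHom.subgroupMap_surjective _ _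
      have hk : f.ker = pCore p N := by
        ext x
        rw [← subgroupOf_pCoreOf, pCoreOf_eq_inf_of_subnormal (inferInstance : N.Normal).isSubnormal,
          mem_subgroupOf, MonoidHom.mem_ker, Subtype.ext_iff]
        simp [f]
      exact Group.nilpotent_of_mulEquiv ((QuotientGroup.quotientMulEquivOfEq hk.symm).trans
        (QuotientGroup.quotientKerEquivOfSurjective f hf)).symm
    · have := hc.coprime_relIndex
      rwa [relIndex, subgroupOf_pCoreOf] at this

end Cfsg.Agent.S2836
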