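import Cfsg.Statements.S2839
import Cfsg.Agent.OD.Pre
import Cfsg.Agent.H7.Large

set_option autoImplicit false
set_option linter.unusedVariables false
open Cfsg

namespace Cfsg.Agent.S2839

open Subgroup CfH7 CfH9
open scoped commutatorElement


/-- Let Q be a nontrivial p-subgroup of the finite group H that is a weakly closed subgroup, K a subgroup containing Q and N a normal subgroup of H. Then Q is a weakly closed subgroup of K; every H-conjugate of Q contained in K is a K-conjugate of Q; N_K(Q) contains a Sylow p-subgroup of K; N = N_N(Q)·O^p(N); and QN/N is a weakly closed subgroup of H/N. -/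
theorem result {H : Type*} [Group H] [Finite H] {p : ℕ} [Fact p.Prime] (Q : Subgroup H) (hQp : IsPGroup p ↥Q) (hQ1 : Q ≠ ⊥) (hwc : Cfsg.IsWeaklyClosedSubgroup p Q) (K : Subgroup H) (hQK : Q ≤ K) (N' : Subgroup H) [N'.Normal] : Cfsg.IsWeaklyClosedSubgroup p (Q.subgroupOf K) ∧ (∀ g : H, ((Q : Subgroup H).map (MulAut.conj (g : H)).toMonoidHom) ≤ K → ∃ k ∈ K, ((Q : Subgroup H).map (MulAut.conj (g : H)).toMonoidHom) = ((Q : Subgroup H).map (MulAut.conj (k : H)).toMonoidHom)) ∧ Cfsg.IsParabolic p ((Subgroup.normalizer ((Q : Subgroup H) : Set H)).subgroupOf K) ∧ (N' ⊓ Subgroup.normalizer ((Q : Subgroup H) : Set H)) ⊔ (Cfsg.pResidual p ↥N').map N'.subtype = N' ∧ Cfsg.IsWeaklyClosedSubgroup p (Q.map (QuotientGroup.mk' N')) := by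
  have h := wc_iff.mp hwc
  refine ⟨wc_iff.mpr (h.subgroupOf hQK), fun g hg => h.exists_mem hQK hg, ?_, ?_,
    wc_iff.mpr (h.map (QuotientGroup.mk'_surjective N'))⟩
  · obtain ⟨S, hS, -, hSN⟩ := h.exists_sylIn hQK
    exact ⟨hS.toSylow, fun x hx => hSN hx⟩
  · obtain ⟨S, hS, -, hSN⟩ := h.exists_sylIn (le_top (a := Q))
    have h1 : SylIn p (S ⊓ N') N' := hS.inf_normal' (normal_iff_top_le_Nm.mp inferInstance) le_top
    refine le_antisymm (sup_le inf_le_left (pResidualOf_le N')) ?_
    refine (sylIn_pResidualOf_sup h1).ge.trans ?_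
    rw [sup_comm]
    exact sup_le_sup_right (le_inf inf_le_right (inf_le_left.trans hSN)) _

end Cfsg.Agent.S2839
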