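import Cfsg.Statements.S2840
import Cfsg.Agent.OD.Pre
import Cfsg.Agent.H7.Large
import Cfsg.Agent.H1.Subnormal

set_option autoImplicit false
set_option linter.unusedVariables false
open Cfsg

namespace Cfsg.Agent.S2840

open Subgroup CfH7 CfH9
open scoped commutatorElement


/-- Let Q be a nontrivial p-subgroup of the finite group H that is a weakly closed subgroup and K a subgroup containing Q; let K° be the weak closure of Q in K (generated by the H-conjugates of Q inside K). Then K° is generated by the K-conjugates of Q, and K° is the subnormal closure of Q in K. -/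
theorem result {H : Type*} [Group H] [Finite H] {p : ℕ} [Fact p.Prime] (Q : Subgroup H) (hQp : IsPGroup p ↥Q) (hQ1 : Q ≠ ⊥) (hwc : Cfsg.IsWeaklyClosedSubgroup p Q) (K : Subgroup H) (hQK : Q ≤ K) (Kc : Subgroup H) (hKc : Kc = Cfsg.weakClosure Q K) : Kc = ⨆ k : ↥K, ((Q : Subgroup H).map (MulAut.conj ((k : H) : H)).toMonoidHom) ∧ Kc = (Cfsg.subnormalClosure (Q.subgroupOf K)).map K.subtype := by
  have h := wc_iff.mp hwc
  subst hKc
  refine ⟨h.weakClosure_eq hQK, ?_⟩
  rw [h.weakClosure_eq hQK]
  apply le_antisymm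
  · rw [← map_subgroupOf_eq_of_le (nclo_le_of_le hQK)]
    refine map_mono (le_sInf fun A hA => ?_)
    have h1 : nclo Q K ≤ A.map K.subtype := h.nclo_le_of_subnIn (subnIn_map_subtype_iff.mpr hA.2)
      (by rw [← map_subgroupOf_eq_of_le hQK]; exact map_mono hA.1)
    rw [← subgroupOf_map_subtype_self K A]
    exact comap_mono h1
  · rw [map_le_iff_le_comap]
    exact sInf_le ⟨comap_mono (le_nclo _ _),
      (subnIn_of_normal (nclo_le_of_le hQK) (right_le_Nm_nclo _ _)).2⟩

end Cfsg.Agent.S2840
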