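import Cfsg.Statements.S2841
import Cfsg.Agent.OD.Pre
import Cfsg.Agent.H7.Large

set_option autoImplicit false
set_option linter.unusedVariables false
open Cfsg

namespace Cfsg.Agent.S2841

open Subgroup CfH7 CfH9
open scoped commutatorElement


/-- Let Q be a nontrivial p-subgroup of the finite group H that is a weakly closed subgroup and N a normal subgroup of H. Then N = N_N(Q)·[N, Q] and [N, Q] = (Q ∩ [N, Q])·[N, Q, Q]. -/
theorem result {H : Type*} [Group H] [Finite H] {p : ℕ} [Fact p.Prime] (Q : Subgroup H) (hQp : IsPGroup p ↥Q) (hQ1 : Q ≠ ⊥) (hwc : Cfsg.IsWeaklyClosedSubgroup p Q) (N' : Subgroup H) [N'.Normal] : (∀ n : H, n ∈ N' → ∃ a ∈ N' ⊓ Subgroup.normalizer ((Q : Subgroup H) : Set H), ∃ b ∈ ⁅N', Q⁆, n = a * b) ∧ (∀ c : H, c ∈ ⁅N', Q⁆ → ∃ a ∈ Q ⊓ ⁅N', Q⁆, ∃ b ∈ ⁅⁅N', Q⁆, Q⁆, c = a * b) := by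
  have h := wc_iff.mp hwc
  have hn : ∀ X : Subgroup H, X ≤ Nm(N') := fun X => le_normalizer_of_normal
  have h1 := h.le_inf_Nm_sup_commutator (hn Q)
  have hA : N' ⊓ Nm(Q) ≤ Nm(⁅N', Q⁆) := inf_le_left.trans (left_le_Nm_comm _ _)
  refine ⟨fun n hn' => ?_, fun c hc => ?_⟩
  · obtain ⟨a, ha, b, hb, e⟩ := (mem_sup_of_le_Nm hA).mp (h1 hn')
    exact ⟨a, ha, b, hb, e.symm⟩
  · have h2 : ⁅N', Q⁆ ≤ (Q ⊓ ⁅N', Q⁆) ⊔ ⁅⁅N', Q⁆, Q⁆ := by
      refine (commutator_mono h1 le_rfl).trans (commutator_sup_left_le ?_ ?_ ?_ le_sup_right)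
      · exact le_normalizer_sup (le_normalizer_inf inf_le_right hA)
          (le_normalizer_commutator hA inf_le_right)
      · refine le_Nm_sup_of_comm_le (left_le_Nm_comm _ _) (le_trans ?_ le_sup_right)
        rw [commutator_comm]
        exact commutator_mono le_rfl inf_le_left
      · exact le_trans (le_inf (comm_le_right inf_le_right) (commutator_mono inf_le_left le_rfl))
          le_sup_left
    obtain ⟨a, ha, b, hb, e⟩ := (mem_sup_of_le_Nm (inf_le_left.trans (right_le_Nm_comm _ _))).mp (h2 hc)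
    exact ⟨a, ha, b, hb, e.symm⟩

end Cfsg.Agent.S2841
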