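import Cfsg.Statements.S2844
import Cfsg.Agent.OD.Pre
import Cfsg.Agent.H7.Large

set_option autoImplicit false
set_option linter.unusedVariables false
open Cfsg

namespace Cfsg.Agent.S2844

open Subgroup CfH7 CfH9
open scoped commutatorElement


/-- Let Q be a nontrivial large p-subgroup of the finite group H and Q• = O_p(N_H(Q)). Then for every g ∈ H outside N_H(Q): C_H(Q) ∩ C_H(gQg⁻¹) = 1, C_H(Q•) ∩ C_H(gQ•g⁻¹) = 1, Z(Q) ∩ Z(gQg⁻¹) = 1 and Z(Q•) ∩ Z(gQ•g⁻¹) = 1; moreover N_H(Q) = N_H(Q•) and Q• is large in H. -/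
theorem result {H : Type*} [Group H] [Finite H] {p : ℕ} [Fact p.Prime] (Q : Subgroup H) (hQp : IsPGroup p ↥Q) (hQ1 : Q ≠ ⊥) (hL : Cfsg.IsLarge Q) (Qb : Subgroup H) (hQb : Qb = Cfsg.largeBullet p Q) : (∀ g : H, g ∉ Subgroup.normalizer ((Q : Subgroup H) : Set H) → Subgroup.centralizer ((Q : Subgroup H) : Set H) ⊓ Subgroup.centralizer ((((Q : Subgroup H).map (MulAut.conj (g : H)).toMonoidHom) : Subgroup H) : Set H) = ⊥ ∧ Subgroup.centralizer ((Qb : Subgroup H) : Set H) ⊓ Subgroup.centralizer ((((Qb : Subgroup H).map (MulAut.conj (g : H)).toMonoidHom) : Subgroup H) : Set H) = ⊥ ∧ (Q ⊓ Subgroup.centralizer ((Q : Subgroup H) : Set H)) ⊓ (((Q : Subgroup H).map (MulAut.conj (g : H)).toMonoidHom) ⊓ Subgroup.centralizer ((((Q : Subgroup H).map (MulAut.conj (g : H)).toMonoidHom) : Subgroup H) : Set H)) = ⊥ ∧ (Qb ⊓ Subgroup.centralizer ((Qb : Subgroup H) : Set H)) ⊓ (((Qb : Subgroup H).map (MulAut.conj (g : H)).toMonoidHom)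 ⊓ Subgroup.centralizer ((((Qb : Subgroup H).map (MulAut.conj (g : H)).toMonoidHom) : Subgroup H) : Set H)) = ⊥) ∧ Subgroup.normalizer ((Q : Subgroup H) : Set H) = Subgroup.normalizer ((Qb : Subgroup H) : Set H) ∧ Cfsg.IsLarge Qb := by
  have h := large_wc hL hQp hQ1
  subst hQb
  have hle : Q ≤ largeBullet p Q := le_pCoreOf le_normalizer le_rfl hQp
  have hN : Nm(Q) = Nm(largeBullet p Q) :=
    le_antisymm (le_normalizer_pCoreOf _) (h.Nm_le (isPGroup_pCoreOf _) hle)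
  refine ⟨fun g hg => ?_, hN, ((Cz_anti hle).trans hL.1).trans hle,
    fun U hU hne => hN ▸ hL.2 U (hU.trans (Cz_anti hle)) hne⟩
  have h1 := large_Cz_inf_Cz hL hQp hQ1 hg
  have h2 : Cz(largeBullet p Q) ⊓ Cz(cj g (largeBullet p Q)) = ⊥ :=
    le_bot_iff.mp (le_trans (inf_le_inf (Cz_anti hle) (Cz_anti (cj_mono g hle))) h1.le)
  exact ⟨h1, h2, le_bot_iff.mp (le_trans (inf_le_inf inf_le_right inf_le_right) h1.le),
    le_bot_iff.mp (le_trans (inf_le_inf inf_le_right inf_le_right) h2.le)⟩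

end Cfsg.Agent.S2844
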