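import Cfsg.Statements.S2847
import Cfsg.Agent.OD.Pre
import Cfsg.Agent.H7.FrakM

set_option autoImplicit false
set_option linter.unusedVariables false
open Cfsg

namespace Cfsg.Agent.S2847

open Subgroup CfH7 CfH9
open scoped commutatorElement


/-- Let H be a finite group of parabolic characteristic p, T a Sylow p-subgroup and L a subgroup containing T with O_p(L) ≠ 1 and C_H(O_p(L)) ≤ O_p(L). Then there are M ≥ T with the basic property (M ∈ 𝔐_H) and L* with T ≤ L* ≤ M, O_p(L*) ≠ 1, C_H(O_p(L*)) ≤ O_p(L*), such that Y_L = Y_{L*} ≤ Y_M and L·C_H(Y_L) = L*·C_H(Y_L), Y denoting largest p-reduced normal subgroups. -/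
theorem result {H : Type*} [Group H] [Finite H] {p : ℕ} [Fact p.Prime] (hH : Cfsg.IsOfParabolicCharacteristic p H) (T : Sylow p H) (L : Subgroup H) (hTL : (T : Subgroup H) ≤ L) (hL : L ∈ Cfsg.charPSubgroups p H) : ∃ M Ls : Subgroup H, (T : Subgroup H) ≤ M ∧ Cfsg.IsInFrakM p M ∧ (T : Subgroup H) ≤ Ls ∧ Ls ≤ M ∧ Ls ∈ Cfsg.charPSubgroups p H ∧ (Cfsg.largestPReducedOf p L) = (Cfsg.largestPReducedOf p Ls) ∧ (Cfsg.largestPReducedOf p L) ≤ (Cfsg.largestPReducedOf p M) ∧ L ⊔ Subgroup.centralizer (((Cfsg.largestPReducedOf p L) : Subgroup H) : Set H) = Ls ⊔ Subgroup.centralizer (((Cfsg.largestPReducedOf p L) : Subgroup H) : Set H) := by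
  have hT := sylIn_top T
  obtain ⟨M, h1, h2, h3⟩ := exists_frakM hH hT hTL hL
  have hc := chP_of_mem_charPSubgroups hL
  have h4 := h3.Y_le hT hTL (chP_of_mem_charPSubgroups h2.1)
  obtain ⟨L', h5, h6, h7⟩ := h3
  obtain ⟨h8, h9, h10⟩ := Y_inf_Nm hT hTL h5 hc h7
  refine ⟨M, _, h1, h2, h10, inf_le_left.trans h6, parabolicChar_mem_charPSubgroups hH hT h10
    (ne_bot_of_le (h8.ge.trans (Y_le_pCoreOf _)) (Y_ne_bot hc (mem_charPSubgroups.mp hL).1)),
    h8.symm, h4, h9.symm⟩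

end Cfsg.Agent.S2847
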