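import Cfsg.Statements.S2851
import Cfsg.Agent.OD.Pre
import Cfsg.Agent.H7.FrakM

set_option autoImplicit false
set_option linter.unusedVariables false
open Cfsg

namespace Cfsg.Agent.S2851

open Subgroup CfH7 CfH9
open scoped commutatorElement

theorem aux {G : Type*} [Group G] [Finite G] {p : ℕ} [Fact p.Prime] {D Y R : Subgroup G}
    [((Cz(Y)).subgroupOf D).Normal] (hred : RedOn p D Y) (hRD : R ≤ D)
    (hF : ((generalizedFittingSubgroup (D ⧸ (Cz(Y)).subgroupOf D)).comap
      (QuotientGroup.mk' ((Cz(Y)).subgroupOf D))).map D.subtype ≤ R) : RedOn p R Y := by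
  intro N hN hn' hR
  have hred' := redOn_iff_quotient.mp hred
  have hND : N ≤ D := hN.trans hRD
  have hN'p : IsPGroup p ((N.subgroupOf D).map (QuotientGroup.mk' ((Cz(Y)).subgroupOf D))) := by
    rw [← pResidualOf_eq_bot_iff, ← map_pResidualOf, pResidualOf_subgroupOf hND,
      CfH1.map_mk'_eq_bot_iff]
    exact comap_mono hR
  have hEN : generalizedFittingSubgroup (D ⧸ (Cz(Y)).subgroupOf D) ≤
      Nm((N.subgroupOf D).map (QuotientGroup.mk' ((Cz(Y)).subgroupOf D))) := by
    rw [← map_comap_eq_self_of_surjective (QuotientGroup.mk'_surjective _)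
      (generalizedFittingSubgroup (D ⧸ (Cz(Y)).subgroupOf D))]
    refine map_le_Nm_map (le_trans ?_ (le_normalizer_comap D.subtype)) _
    rw [← map_le_iff_le_comap]
    exact hF.trans hn'
  set E := generalizedFittingSubgroup (D ⧸ (Cz(Y)).subgroupOf D) with hE
  set N' := (N.subgroupOf D).map (QuotientGroup.mk' ((Cz(Y)).subgroupOf D)) with hN'
  have h4 : N' ⊓ E = ⊥ := by
    rw [← le_bot_iff, ← hred']
    exact (le_pCoreOf inf_le_right (le_normalizer_inf hEN le_normalizer)
      (hN'p.to_le inf_le_left)).trans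
      (pCoreOf_le_pCore_of_subnormal (inferInstance : E.Normal).isSubnormal)
  have h5 : N' ≤ E := le_trans (comm_eq_bot_left.mp (le_bot_iff.mp (h4 ▸ le_inf (comm_le_left hEN)
    (comm_le_right (le_Nm_normal _ _))))) centralizer_fstar_le
  rw [inf_eq_left.mpr h5, hN', CfH1.map_mk'_eq_bot_iff] at h4
  intro x hx
  exact h4 (show (⟨x, hND hx⟩ : D) ∈ N.subgroupOf D from hx)

/-- Standing hypotheses: G a finite group, S a Sylow p-subgroup, Q a nontrivial large p-subgroup of G contained in S, M a subgroup containing S with the basic property (M ∈ 𝔐_G(S)); Y_M the largest p-reduced normal subgroup of M and M† = M·C_G(Y_M). Let F be the preimage in M† of the generalized Fitting subgroup of M†/C_{M†}(Y_M). If Y_M is asymmetric in G and H is a subgroup of characteristic p containing F, then Y_M ≤ Y_H. -/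
theorem result {G : Type*} [Group G] [Finite G] {p : ℕ} [Fact p.Prime] (S : Sylow p G) (Q : Subgroup G) (hQp : IsPGroup p ↥Q) (hQ1 : Q ≠ ⊥) (hQS : Q ≤ (S : Subgroup G)) (hQ : Cfsg.IsLarge Q) (M : Subgroup G) (hSM : (S : Subgroup G) ≤ M) (hM : Cfsg.IsInFrakM p M) (hasym : ¬ Cfsg.IsSymmetricIn (Cfsg.largestPReducedOf p M)) [hn : ((Subgroup.centralizer (((Cfsg.largestPReducedOf p M) : Subgroup G) : Set G)).subgroupOf (M ⊔ Subgroup.centralizer (((Cfsg.largestPReducedOf p M) : Subgroup G) : Set G))).Normal] (F : Subgroup G) (hF : F = ((Cfsg.generalizedFittingSubgroup (↥(M ⊔ Subgroup.centralizer (((Cfsg.largestPReducedOf p M) : Subgroup G) : Set G)) ⧸ (Subgroup.centralizer (((Cfsg.largestPReducedOf p M) : Subgroup G) : Set G)).subgroupOf (M ⊔ Subgroup.centralizer (((Cfsg.largestPReducedOf p M) : Subgroup G) : Set G)))).comap (QuotientGroup.mk' ((Subgroup.centralizer (((Cfsg.largestPReducedOf p M) : Subgroup G) : Set G)).subgroupOf (M ⊔ Subgroup.centralizer (((Cfsg.largestPReducedOf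 p M) : Subgroup G) : Set G))))).map ((M ⊔ Subgroup.centralizer (((Cfsg.largestPReducedOf p M) : Subgroup G) : Set G))).subtype) (H : Subgroup G) (hFH : F ≤ H) (hH : Subgroup.centralizer (Cfsg.pCore p ↥H : Set ↥H) ≤ Cfsg.pCore p ↥H) : (Cfsg.largestPReducedOf p M) ≤ Cfsg.largestPReducedOf p H := by
  have h := fm_of_large S hQ hQp hSM hM
  have ha := asym_of_not _ hasym
  have hCF : Cz(largestPReducedOf p M) ≤ F := by
    rw [hF]
    exact (map_subgroupOf_eq_of_le le_sup_right).ge.trans (map_mono (CfH1.le_comap_mk' _ _))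
  have hOH : pCoreOf p M ≤ H := ((pCoreOf_le_Cz_Y M).trans hCF).trans hFH
  obtain ⟨T, h1, h2, -, h3⟩ := h.exists_sylIn ha hOH
  refine PRed.le_Y_of_chP hH h1 h3 inf_le_left ⟨((Y_le_pCoreOf M).trans h2).trans h3,
    inf_le_right.trans (dag_le_Nm M), elemAb_Y M, ?_⟩
  exact aux ((redOn_sup_Cz_iff (le_Nm_Y M)).mpr (pRed_Y M).red) inf_le_right
    (le_inf (hF ▸ hFH) (map_subtype_le _))

end Cfsg.Agent.S2851
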