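import Cfsg.Statements.S2854
import Cfsg.Agent.OD.Pre
import Cfsg.Agent.H7.FrakM

set_option autoImplicit false
set_option linter.unusedVariables false
open Cfsg

namespace Cfsg.Agent.S2854

open Subgroup CfH7 CfH9
open scoped commutatorElement


/-- Standing hypotheses: G a finite group, S a Sylow p-subgroup, Q a nontrivial large p-subgroup of G contained in S, M a subgroup containing S with the basic property (M ∈ 𝔐_G(S)); Y_M the largest p-reduced normal subgroup of M and M† = M·C_G(Y_M). Suppose Y_M is asymmetric in G, H ∈ ℌ_G(O_p(M)), and H ≤ N_G(gQg⁻¹) for some g ∈ G. Then gQg⁻¹ ≤ O_p(H·gQg⁻¹) ≤ N_G(O_p(M)) ≤ N_G(Y_M) = M†; H is normal in H·gQg⁻¹ with O^p(H) = O^p(H·gQg⁻¹); and H·gQg⁻¹ is p-irreducible. -/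
theorem result {G : Type*} [Group G] [Finite G] {p : ℕ} [Fact p.Prime] (S : Sylow p G) (Q : Subgroup G) (hQp : IsPGroup p ↥Q) (hQ1 : Q ≠ ⊥) (hQS : Q ≤ (S : Subgroup G)) (hQ : Cfsg.IsLarge Q) (M : Subgroup G) (hSM : (S : Subgroup G) ≤ M) (hM : Cfsg.IsInFrakM p M) (hasym : ¬ Cfsg.IsSymmetricIn (Cfsg.largestPReducedOf p M)) (H : Subgroup G) (hH : Cfsg.IsInFrakH p M H) (g : G) (hHQ : H ≤ Subgroup.normalizer ((((Q : Subgroup G).map (MulAut.conj (g : G)).toMonoidHom) : Subgroup G) : Set G)) : ((Q : Subgroup G).map (MulAut.conj (g : G)).toMonoidHom) ≤ Cfsg.pCoreOf p (H ⊔ ((Q : Subgroup G).map (MulAut.conj (g : G)).toMonoidHom)) ∧ Cfsg.pCoreOf p (H ⊔ ((Q : Subgroup G).map (MulAut.conj (g : G)).toMonoidHom)) ≤ Subgroup.normalizer (((Cfsg.pCoreOf p M) : Subgroup G) : Set G) ∧ Subgroup.normalizer (((Cfsg.pCoreOf p M) : Subgroup G) : Set G) ≤ Subgroup.normalizer (((Cfsg.largestPReducedOf p M) : Subgroup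 G) : Set G) ∧ Subgroup.normalizer (((Cfsg.largestPReducedOf p M) : Subgroup G) : Set G) = (M ⊔ Subgroup.centralizer (((Cfsg.largestPReducedOf p M) : Subgroup G) : Set G)) ∧ (H.subgroupOf (H ⊔ ((Q : Subgroup G).map (MulAut.conj (g : G)).toMonoidHom))).Normal ∧ (Cfsg.pResidual p ↥H).map H.subtype = (Cfsg.pResidual p ↥(H ⊔ ((Q : Subgroup G).map (MulAut.conj (g : G)).toMonoidHom))).map (H ⊔ ((Q : Subgroup G).map (MulAut.conj (g : G)).toMonoidHom)).subtype ∧ Cfsg.IsPIrreducible p ↥(H ⊔ ((Q : Subgroup G).map (MulAut.conj (g : G)).toMonoidHom)) := by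
  have h : FH p S M H := ⟨fm_of_large S hQ hQp hSM hM, asym_of_not _ hasym, hH⟩
  change H ≤ Nm(cj g Q) at hHQ
  change cj g Q ≤ pCoreOf p (H ⊔ cj g Q) ∧ pCoreOf p (H ⊔ cj g Q) ≤ _ ∧ _ ∧ _ ∧
    (H.subgroupOf (H ⊔ cj g Q)).Normal ∧ pResidualOf p H = pResidualOf p (H ⊔ cj g Q) ∧
    IsPIrreducible p ↥(H ⊔ cj g Q)
  have hp := isPGroup_cj hQp g
  have h1 : cj g Q ≤ pCoreOf p (H ⊔ cj g Q) :=
    le_pCoreOf le_sup_right (sup_le hHQ le_normalizer) hp
  have h2 : pCoreOf p (H ⊔ cj g Q) ≤ Nm(pCoreOf p M) :=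
    (h.wc h.asym).pCoreOf_le_Nm ((h.O_le.trans le_sup_left).trans le_normalizer)
  have hn : H ≤ Nm(cj g Q ⊓ H) := le_normalizer_inf hHQ le_normalizer
  have h3 : cj g Q ≤ Nm(H) := by
    refine le_Nm_of_comm_le_right (le_trans ?_ (inf_le_right : cj g Q ⊓ H ≤ H))
    conv_lhs => rw [← h.nclo_O]
    exact commutator_nclo_le hHQ hn (h.O_le.trans hn)
      (le_inf (comm_le_left (h.O_le.trans hHQ)) ((comm_le_right (h1.trans h2)).trans h.O_le))
  exact ⟨h1, h2, h.Nm_O_le_Nm_Y, h.Nm_Y,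
    (normal_subgroupOf_iff_le_normalizer le_sup_left).mpr (sup_le le_normalizer h3),
    (pResidualOf_sup_of_isPGroup hp h3).symm, isPIrreducible_iff.mpr (h.pIrr.sup hp hHQ)⟩

end Cfsg.Agent.S2854
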