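import Cfsg.Statements.S2855
import Cfsg.Agent.OD.Pre
import Cfsg.Agent.H7.PMin

set_option autoImplicit false
set_option linter.unusedVariables false
open Cfsg

namespace Cfsg.Agent.S2855

open Subgroup CfH7 CfH9
open scoped commutatorElement

theorem comm_eq_bot_of_sPIrr {G : Type*} [Group G] [Finite G] {p : ℕ} [Fact p.Prime]
    {E X : Subgroup G} (hE : SPIrr p E) (hO : pCoreOf p E = ⊥) (h1 : X ≤ Nm(E)) (h2 : E ≤ Nm(X))
    (h3 : ¬ pResidualOf p E ≤ X) : ⁅X, E⁆ = ⊥ := by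
  have hn : E ≤ Nm(E ⊓ X) := le_normalizer_inf le_normalizer h2
  have hD : ⁅E ⊓ X, E⁆ = ⊥ := by
    by_contra e
    exact h3 ((hE.2 _ inf_le_left hn (by rwa [hO, le_bot_iff])).trans inf_le_right)
  have hc : ⁅X, E⁆ ≤ E ⊓ X := le_inf (comm_le_right h1) (comm_le_left h2)
  have hcop : (Nat.card (E ⊓ X : Subgroup G)).Coprime p :=
    (pCl_of_commutator_le (p := p) inf_le_left (hD.le.trans bot_le)).coprime_of_pCoreOf_eq_bot
      (le_bot_iff.mp (hO ▸ pCoreOf_le_pCoreOf_of_normal inf_le_left hn))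
  obtain ⟨T, hT⟩ := exists_sylIn p E
  have h4 : ⁅X, ⁅E, E⁆⁆ ≤ ⊥ := commutator_commutator_self_le (le_Nm_normal _ _) (le_Nm_normal _ _)
    ((commutator_mono hc le_rfl).trans hD.le)
  have h5 : X ≤ Cz(T) := fun x hx => by
    obtain ⟨m, hm, c, hc', rfl⟩ := CfH8.exists_mul_centralizer_of_commutator_mem (A := T)
      (M := E ⊓ X) (hT.le.trans hn) (CfH8.coprime_card_of_isPGroup' hT.pgrp hcop).symm
      (Or.inl (CfH8.isSolvable_of_isPGroup hT.pgrp)) (x := x)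
      fun a ha => hc (commutator_mem_commutator hx (hT.le ha))
    exact mul_mem (Cz_anti hT.le (comm_eq_bot_left.mp hD hm)) hc'
  rw [comm_eq_bot_left, ← hE.pIrr.commutator_sup_sylIn hT, Cz_sup]
  exact le_inf (comm_eq_bot_left.mp (le_bot_iff.mp h4)) h5

theorem partB {H : Type*} [Group H] [Finite H] {p : ℕ} [Fact p.Prime] (hO : pCore p H = ⊥)
    (𝒦 : Set (Subgroup H)) (hne : 𝒦.Nonempty) (hinv : ∀ h : H, ∀ E ∈ 𝒦, cj h E ∈ 𝒦)
    (htr : ∀ E ∈ 𝒦, ∀ K ∈ 𝒦, ∃ h : H, K = cj h E) (hres : pResidual p H ≤ sSup 𝒦)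
    (hnorm : ∀ E ∈ 𝒦, sSup 𝒦 ≤ Nm(E)) (hS : ∀ E ∈ 𝒦, SPIrr p E) :
    PIrr p (⊤ : Subgroup H) ∧
      ∀ E ∈ 𝒦, ∀ K ∈ 𝒦, pResidualOf p E = pResidualOf p K ∨ ⁅E, K⁆ = ⊥ := by
  set R := sSup 𝒦 with hR
  haveI hRn : R.Normal := normal_of_forall_mem_Nm fun g =>
    CfH1.mem_normalizer_sSup fun U hU => hinv g U hU
  have hsn : ∀ E ∈ 𝒦, E.IsSubnormal := fun E hE =>
    (subnIn_of_normal (le_sSup hE) (hnorm E hE)).isSubnormal hRn.isSubnormal
  have hOE : ∀ E ∈ 𝒦, pCoreOf p E = ⊥ := fun E hE =>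
    le_bot_iff.mp (hO ▸ pCoreOf_le_pCore_of_subnormal (hsn E hE))
  obtain ⟨T⟩ : Nonempty (Sylow p H) := inferInstance
  have key : ∀ N : Subgroup H, N.Normal → (∀ E ∈ 𝒦, pResidualOf p E ≤ N) → pResidual p H ≤ N := by
    intro N hN h
    refine pResidual_le_of_sup_eq_top T.isPGroup' (top_le_iff.mp ?_)
    rw [← pResidual_sup_sylow T]
    refine sup_le (hres.trans (sSup_le fun E hE => ?_)) le_sup_right
    rw [← sylIn_pResidualOf_sup (sylIn_inf_of_isSubnormal T (hsn E hE))]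
    exact sup_le_sup (h E hE) inf_le_left
  refine ⟨⟨fun e => ?_, fun N _ hN hc => ?_⟩, fun E hE K hK => ?_⟩
  · obtain ⟨E, hE⟩ := hne
    exact (hS E hE).1 (e.mono le_top)
  · haveI := normal_of_top_le_normalizer hN
    rw [pResidualOf_top]
    by_contra hcon
    have h1 : ∀ E ∈ 𝒦, ¬ pResidualOf p E ≤ N := fun E hE e => hcon (key N inferInstance
      fun K hK => by
        obtain ⟨g, rfl⟩ := htr E hE K hK
        rw [← cj_pResidualOf, ← cj_normal g N]
        exact cj_mono g e)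
    have h2 : R ≤ Cz(N ⊓ R) := sSup_le fun E hE => comm_eq_bot_right.mp
      (comm_eq_bot_of_sPIrr (hS E hE) (hOE E hE) (inf_le_right.trans (hnorm E hE))
        (le_Nm_normal _ _) fun e => h1 E hE (e.trans inf_le_left))
    have h3 : ⁅N, ⁅R, R⁆⁆ ≤ ⊥ := commutator_commutator_self_le (le_Nm_normal _ _)
      (le_Nm_normal _ _) ((commutator_mono (commutator_le_inf N R) le_rfl).trans
        (comm_eq_bot_right.mpr h2).le)
    have h4 : pResidual p H ≤ Cz(N) := (key ⁅R, R⁆ inferInstance fun E hE =>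
      (hS E hE).pIrr.pResidualOf_le_commutator.trans
        (commutator_mono (le_sSup hE) (le_sSup hE))).trans (comm_eq_bot_right.mp (le_bot_iff.mp h3))
    refine hc (pCl_of_sylIn (sylIn_inf_normal T N) (le_top.trans ?_))
    rw [← pResidual_sup_sylow T]
    exact sup_le ((h4.trans (Cz_anti inf_le_right)).trans (Cz_le_Nm _))
      (le_normalizer_inf le_normalizer (le_Nm_normal _ _))
  · by_cases e : pResidualOf p K ≤ E
    · left
      obtain ⟨g, rfl⟩ := htr E hE K hK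
      have h1 : pResidualOf p (cj g E) ≤ pResidualOf p E := by
        rw [← pResidualOf_pResidualOf (cj g E)]; exact pResidualOf_mono e
      refine (eq_of_le_of_card_ge h1 ?_).symm
      rw [← cj_pResidualOf, card_cj]
    · exact Or.inr (comm_eq_bot_of_sPIrr (hS K hK) (hOE K hK) ((le_sSup hE).trans (hnorm K hK))
        ((le_sSup hK).trans (hnorm E hE)) e)

theorem minOver_sup {G : Type*} [Group G] [Finite G] {p : ℕ} [Fact p.Prime] {E O T S M : Subgroup G}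
    (hO : IsPGroup p O) (hn : E ≤ Nm(O)) (hT : SylIn p T (E ⊔ O)) (hS : SylIn p S E)
    (h : MinOver S E M) : ∃ M, MinOver T (E ⊔ O) M := by
  have hn' : E ⊔ O ≤ Nm(O) := sup_le hn le_normalizer
  have hd : ∀ X, O ≤ X → X ≤ E ⊔ O → X = (E ⊓ X) ⊔ O := fun X h1 h2 => by
    rw [← sup_inf_of_le_normalizer' hn h1, inf_eq_right.mpr h2]
  have h1 : SylIn p (S ⊔ O) (E ⊔ O) := by
    obtain ⟨T', hT', hle⟩ := exists_sylIn_ge (isPGroup_sup hS.pgrp hO (hS.le.trans hn))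
      (sup_le_sup_right hS.le O)
    have e := hd T' (le_sup_right.trans hle) hT'.le
    rw [hS.eq_of_le (hT'.pgrp.to_le inf_le_right) inf_le_left
      (le_inf hS.le (le_sup_left.trans hle))] at e
    exact e ▸ hT'
  have h2 : MinOver (S ⊔ O) (E ⊔ O) (M ⊔ O) := by
    refine ⟨⟨sup_le_sup_right h.le O, lt_of_le_of_ne (sup_le_sup_right h.lt.le O) fun e =>
      h.lt.not_ge ?_, fun X hX hlt => ?_⟩, le_antisymm (nclo_le_of_le h1.le) (sup_le ?_ ?_)⟩
    · have h3 := sup_inf_of_le_normalizer (h.lt.le.trans hn) h.lt.le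
      rw [e, inf_eq_right.mpr le_sup_left] at h3
      refine h3.le.trans (sup_le le_rfl (le_trans ?_ (h.pCoreOf_le hS.pgrp)))
      exact le_pCoreOf inf_le_right (le_normalizer_inf hn le_normalizer) (hO.to_le inf_le_left)
    · rw [hd X (le_sup_right.trans hX) hlt.le]
      refine sup_le_sup_right (h.max _ (le_inf hS.le (le_sup_left.trans hX))
        (lt_of_le_of_ne inf_le_left fun e => hlt.not_ge ?_)) O
      exact sup_le (inf_eq_left.mp e) (le_sup_right.trans hX)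
    · exact h.clo.ge.trans (nclo_mono le_sup_left le_sup_left)
    · exact le_sup_right.trans (le_nclo _ _)
  obtain ⟨g, hg, e⟩ := h1.conj hT
  exact ⟨_, e ▸ h2.conj_of_mem (le_normalizer hg)⟩

/-- Let H be a finite group, p a prime, and 𝒦 a nonempty set of subgroups of H permuted transitively by conjugation, with R the subgroup generated by the members of 𝒦. Suppose O^p(H) ≤ R, each E ∈ 𝒦 has E·O_p(H) normal in R·O_p(H), and each E ∈ 𝒦 is p-minimal (generated by the conjugates of a Sylow p-subgroup T_E of E, with T_E in exactly one maximal subgroup of E). Then H is p-minimal in the same sense. If instead each E ∈ 𝒦 is strongly p-irreducible, then H is p-irreducible and, for E, K ∈ 𝒦, either O^p(E·O_p(H)) = O^p(K·O_p(H)) or [E, K] ≤ O_p(H). -/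
theorem result {H : Type*} [Group H] [Finite H] {p : ℕ} [Fact p.Prime] (𝒦 : Set (Subgroup H)) (hne : 𝒦.Nonempty) (hinv : ∀ h : H, ∀ E ∈ 𝒦, E.map (MulAut.conj h).toMonoidHom ∈ 𝒦) (htr : ∀ E ∈ 𝒦, ∀ K ∈ 𝒦, ∃ h : H, K = E.map (MulAut.conj h).toMonoidHom) (hres : Cfsg.pResidual p H ≤ sSup 𝒦) (hnorm : ∀ E ∈ 𝒦, sSup 𝒦 ⊔ Cfsg.pCore p H ≤ Subgroup.normalizer ((E ⊔ Cfsg.pCore p H : Subgroup H) : Set H)) : ((∀ E ∈ 𝒦, ∀ T : Sylow p ↥E, Cfsg.IsMinimalOver (T : Subgroup ↥E)) → ∀ T : Sylow p H, Cfsg.IsMinimalOver (T : Subgroup H)) ∧ ((∀ E ∈ 𝒦, Cfsg.IsStronglyPIrreducible p ↥E) → Cfsg.IsPIrreducible p H ∧ ∀ E ∈ 𝒦, ∀ K ∈ 𝒦, (Cfsg.pResidual p ↥(E ⊔ Cfsg.pCore p H)).map (E ⊔ Cfsg.pCore p H).subtype = (Cfsg.pResidual p ↥(K ⊔ Cfsg.pCore p H)).map (K ⊔ Cfsg.pCore p H).subtype ∨ ⁅E, K⁆ ≤ Cfsg.pCore p H) := by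
  change ∀ h : H, ∀ E ∈ 𝒦, cj h E ∈ 𝒦 at hinv
  change ∀ E ∈ 𝒦, ∀ K ∈ 𝒦, ∃ h : H, K = cj h E at htr
  set R := sSup 𝒦 with hR
  set O := pCore p H with hO
  haveI hRn : R.Normal := normal_of_forall_mem_Nm fun g =>
    CfH1.mem_normalizer_sSup fun U hU => hinv g U hU
  have hsn : ∀ E ∈ 𝒦, (E ⊔ O).IsSubnormal := fun E hE =>
    (subnIn_of_normal (sup_le_sup_right (le_sSup hE) O) (hnorm E hE)).isSubnormal
      (inferInstance : (R ⊔ O).Normal).isSubnormal
  refine ⟨fun hmin T => ?_, fun hS => ?_⟩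
  · obtain ⟨E, hE⟩ := hne
    obtain ⟨S⟩ : Nonempty (Sylow p E) := inferInstance
    obtain ⟨M₀, hM₀⟩ := isMinimalOver_iff_map.mp (hmin E hE S)
    have hT₁ := sylIn_inf_of_isSubnormal T (hsn E hE)
    obtain ⟨M₁, h⟩ := minOver_sup (isPGroup_pCore p H) (le_Nm_normal _ _) hT₁ (sylIn_of_sylow S) hM₀
    set E₁ := E ⊔ O with hE₁
    have hRT : (T : Subgroup H) ⊔ R = ⊤ :=
      top_le_iff.mp ((pResidual_sup_sylow T).ge.trans (sup_le (hres.trans le_sup_right) le_sup_left))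
    have hcj : ∀ x : H, cj x E₁ = cj x E ⊔ O := fun x => by rw [hE₁, cj_sup, cj_normal x O]
    have hgen : ∀ X : Subgroup H, (T : Subgroup H) ≤ X → ∀ x : H, cj x E₁ ≤ X → X = ⊤ := by
      intro X hX x hx
      refine top_le_iff.mp (hRT.ge.trans (sup_le hX (sSup_le fun K hK => ?_)))
      obtain ⟨g, rfl⟩ := htr _ (hinv x E hE) K hK
      obtain ⟨t, ht, r, hr, rfl⟩ := (mem_sup_of_le_Nm (le_Nm_normal _ R)).mp
        (hRT.ge (mem_top g))
      have h1 : cj r (cj x E) ≤ X := by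
        refine le_trans ?_ hx
        rw [hcj, ← cj_eq_of_mem_normalizer (hnorm _ (hinv x E hE) (mem_sup_left hr))]
        exact cj_mono r le_sup_left
      rw [cj_mul]
      exact cj_le_of_mem h1 (hX ht)
    have hgood : ∀ X : Subgroup H, (T : Subgroup H) ≤ X → X < ⊤ → ∀ x ∈ X, ∀ g : H,
        (T : Subgroup H) ⊓ cj g E₁ ≤ cj g M₁ → (T : Subgroup H) ⊓ cj (x * g) E₁ ≤ cj (x * g) M₁ := by
      intro X hX hlt x hx g hg
      have h1 : SylIn p ((T : Subgroup H) ⊓ cj g E₁) (cj g E₁) :=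
        sylIn_inf_of_isSubnormal T (hcj g ▸ hsn _ (hinv g E hE))
      have h2 := (h.conj g).toUMax.of_sylIn (hT₁.cj g) h1 hg
      have h3 : X ⊓ cj g E₁ ≤ cj g M₁ := h2.max _ (inf_le_inf_right _ hX)
        (lt_of_le_of_ne inf_le_right fun e => hlt.ne (hgen X hX g (inf_eq_right.mp e)))
      rw [cj_mul, cj_mul]
      refine le_trans ?_ (cj_mono x h3)
      rw [cj_inf, cj_eq_of_mem hx]
      exact inf_le_inf_right _ hX
    let M : Subgroup H := ⨆ X : {X : Subgroup H // (T : Subgroup H) ≤ X ∧ X < ⊤}, (X : Subgroup H)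
    have hM : ∀ x ∈ M, ∀ g : H, (T : Subgroup H) ⊓ cj g E₁ ≤ cj g M₁ →
        (T : Subgroup H) ⊓ cj (x * g) E₁ ≤ cj (x * g) M₁ := by
      intro x hx
      refine Subgroup.iSup_induction _ (C := fun x => ∀ g : H, (T : Subgroup H) ⊓ cj g E₁ ≤ cj g M₁ →
        (T : Subgroup H) ⊓ cj (x * g) E₁ ≤ cj (x * g) M₁) hx
        (fun X x hx => hgood X X.2.1 X.2.2 x hx) (fun g hg => by rwa [one_mul]) ?_
      intro x y h1 h2 g hg
      rw [mul_assoc]
      exact h1 _ (h2 g hg)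
    have hMt : M < ⊤ := lt_top_iff_ne_top.mpr fun e => h.lt.not_ge (by
      refine h.clo.ge.trans (nclo_le_iff'.mpr fun x hx => ?_)
      have := hM x⁻¹ (e ▸ mem_top _) 1 (by rw [cj_one, cj_one]; exact h.le)
      rw [mul_one, cj_eq_of_mem (inv_mem hx)] at this
      exact cj_le_iff.mpr this)
    have hTt : (T : Subgroup H) < ⊤ := lt_top_iff_ne_top.mpr fun e =>
      h.not_isPGroup (T.isPGroup'.to_le (e ▸ le_top))
    have hle : ∀ X : Subgroup H, (T : Subgroup H) ≤ X → X < ⊤ → X ≤ M := fun X h1 h2 =>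
      le_iSup (fun X : {X : Subgroup H // (T : Subgroup H) ≤ X ∧ X < ⊤} => (X : Subgroup H)) ⟨X, h1, h2⟩
    refine isMinimalOver_iff_top.mpr ⟨M, ⟨hle _ le_rfl hTt, hMt, hle⟩, hgen _ (le_nclo _ _) 1 ?_⟩
    rw [cj_one]
    exact h.clo.ge.trans (nclo_mono inf_le_left le_top)
  · set f := QuotientGroup.mk' O with hf
    have hsurj : Function.Surjective f := QuotientGroup.mk'_surjective O
    have hk : ∀ X : Subgroup H, IsPGroup p (X ⊓ f.ker : Subgroup H) := fun X => by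
      rw [hf, QuotientGroup.ker_mk']; exact (isPGroup_pCore p H).to_le inf_le_right
    have hmO : ∀ X : Subgroup H, (X ⊔ O).map f = X.map f := fun X => by
      rw [Subgroup.map_sup, (CfH1.map_mk'_eq_bot_iff O O).mpr le_rfl, sup_bot_eq]
    have hsup : sSup ((fun E => E.map f) '' 𝒦) = R.map f := by
      rw [hR, sSup_image, sSup_eq_iSup]; simp only [Subgroup.map_iSup]
    obtain ⟨h1, h2⟩ := partB (pCore_quotient_pCore p H) ((fun E => E.map f) '' 𝒦) (hne.image _)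
      (by
        rintro g _ ⟨E, hE, rfl⟩
        obtain ⟨g, rfl⟩ := hsurj g
        exact ⟨_, hinv g E hE, map_cj f g E⟩)
      (by
        rintro _ ⟨E, hE, rfl⟩ _ ⟨K, hK, rfl⟩
        obtain ⟨g, rfl⟩ := htr E hE K hK
        exact ⟨f g, map_cj f g E⟩)
      (by rw [hsup, ← map_pResidual_of_surjective hsurj]; exact map_mono hres)
      (by
        rintro _ ⟨E, hE, rfl⟩
        rw [hsup]
        have := map_le_Nm_map (hnorm E hE) f
        rwa [hmO, hmO] at this)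
      (by
        rintro _ ⟨E, hE, rfl⟩
        exact (sPIrr_map_iff (hk E)).mpr (isStronglyPIrreducible_iff.mp (hS E hE)))
    refine ⟨isPIrreducible_iff_top.mpr ((pIrr_map_iff (hk ⊤)).mp
      (by rwa [map_top_of_surjective f hsurj])), fun E hE K hK => ?_⟩
    have key : ∀ E ∈ 𝒦, ∀ K ∈ 𝒦, pResidualOf p (E.map f) = pResidualOf p (K.map f) →
        pResidualOf p (E ⊔ O) ≤ pResidualOf p (K ⊔ O) := fun E hE K hK e => by
      rw [← hmO E, ← hmO K, ← map_pResidualOf, ← map_pResidualOf] at e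
      exact pResidualOf_le_of_le_sup' (isPGroup_pCore p H)
        (le_sup_right.trans (le_normalizer_pResidualOf (K ⊔ O)))
        ((CfH1.map_mk'_le_map_mk'_iff _ _ _).mp e.le)
    rcases h2 _ ⟨E, hE, rfl⟩ _ ⟨K, hK, rfl⟩ with e | e
    · exact Or.inl (le_antisymm (key E hE K hK e) (key K hK E hE e.symm))
    · right
      rwa [← map_commutator, CfH1.map_mk'_eq_bot_iff] at e

end Cfsg.Agent.S2855
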