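import Cfsg.Statements.S2859
import Cfsg.Agent.OD.Pre
import Cfsg.Agent.H7.PMin

set_option autoImplicit false
set_option linter.unusedVariables false
open Cfsg

namespace Cfsg.Agent.S2859

open Subgroup CfH7 CfH9
open scoped commutatorElement

theorem res_nclo {G : Type*} [Group G] [Finite G] {p : ℕ} [Fact p.Prime] {Q L : Subgroup G}
    (h : WC p Q) (hQL : Q ≤ L) : ⁅pResidualOf p (nclo Q L), Q⁆ = pResidualOf p (nclo Q L) ∧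
      pResidualOf p (nclo Q L) ⊔ Q = nclo Q L := by
  obtain ⟨S, h1, h2, h3⟩ := h.exists_sylIn (le_nclo Q L)
  have h4 : nclo Q L = nclo Q (pResidualOf p (nclo Q L)) := by
    rw [← SylIn.nclo_eq h1 h3, h.nclo_nclo hQL]
  refine ⟨commutator_pResidualOf_eq (pResidualOf_pResidualOf _) h.1
    ((le_nclo _ _).trans (le_normalizer_pResidualOf _)) ((pResidualOf_le _).trans h4.le),
    le_antisymm (sup_le (pResidualOf_le _) (le_nclo _ _)) (h4.le.trans ?_)⟩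
  rw [sup_comm]; exact nclo_le_sup _ _

theorem aux {G : Type*} [Group G] [Finite G] {p : ℕ} [Fact p.Prime] {Q Hc H₁ H₂ K₁ : Subgroup G}
    (h : WC p Q) (hHc : Hc = nclo Q ⊤) (hn₁ : H₁ ≤ Hc ∧ Hc ≤ Nm(H₁)) (hn₂ : H₂ ≤ Hc ∧ Hc ≤ Nm(H₂))
    (hprod : H₁ ⊔ H₂ = Hc) (hcomm : ⁅H₁, H₂⁆ ≤ Nm(Q)) (hK₁ : K₁ = pResidualOf p (nclo Q (H₁ ⊔ Q))) :
    (⁅K₁, Q⁆ = K₁ ∧ ⁅K₁, H₁⁆ = K₁ ∧ K₁ ≤ ⁅H₁, H₁⁆ ∧ Hc ≤ Nm(K₁)) ∧ K₁ ≤ H₁ ∧
      ⁅K₁, H₂⁆ ≤ pCoreOf p Hc ∧ H₁ ≤ Nm(K₁ ⊔ Q) := by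
  obtain ⟨h1, h2⟩ := res_nclo h (le_sup_right : Q ≤ H₁ ⊔ Q)
  rw [← hK₁] at h1 h2
  have hQc : Q ≤ Hc := hHc ▸ le_nclo _ _
  set O := pCoreOf p Hc with hO
  have hOp : IsPGroup p O := isPGroup_pCoreOf _
  have hcO : Hc ≤ Nm(O) := le_normalizer_pCoreOf _
  have hOc : O ≤ Hc := pCoreOf_le _
  have hidem : pResidualOf p K₁ = K₁ := hK₁ ▸ pResidualOf_pResidualOf _
  have hres : ∀ N, O ≤ Nm(N) → K₁ ≤ N ⊔ O → K₁ ≤ N := fun N a b =>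
    hidem ▸ pResidualOf_le_of_le_sup hOp a b
  have hKH : K₁ ≤ H₁ := hK₁ ▸ pResidualOf_le_of_le_sup h.1 (hQc.trans hn₁.2)
    (nclo_le_of_le le_sup_right)
  have hHK : H₁ ≤ Nm(K₁) := hK₁ ▸ (le_sup_left.trans (right_le_Nm_nclo _ _)).trans
    (normalizer_le_normalizer_pResidualOf _)
  have hDn : Hc ≤ Nm(⁅H₁, H₂⁆) := le_normalizer_commutator hn₁.2 hn₂.2
  have hDc : ⁅H₁, H₂⁆ ≤ Hc := (comm_le_left (hn₂.1.trans hn₁.2)).trans hn₁.1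
  have hD : ⁅⁅H₁, H₂⁆, Hc⁆ ≤ O := by
    have e : Hc = nclo Q Hc := by rw [hHc, h.nclo_nclo le_top]
    conv_lhs => rhs; rw [e]
    refine commutator_nclo_le hDn hcO (hQc.trans hcO) ?_
    refine le_trans (le_inf (comm_le_left (hQc.trans hDn)) (comm_le_right hcomm)) ?_
    exact (le_pCoreOf inf_le_left (le_normalizer_inf le_normalizer hcomm)
      (h.1.to_le inf_le_right)).trans (pCoreOf_le_pCoreOf_of_normal hDc hDn)
  have hH'n : Hc ≤ Nm(⁅H₁, H₁⁆) := le_normalizer_commutator hn₁.2 hn₁.2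
  have hH'c : ⁅H₁, H₁⁆ ≤ Hc := (comm_le_left le_normalizer).trans hn₁.1
  have h3 : ⁅H₂, ⁅H₁, H₁⁆⁆ ≤ O := commutator_commutator_self_le (hn₂.1.trans hcO) (hn₁.1.trans hcO)
    (by rw [commutator_comm H₂ H₁]; exact (commutator_mono le_rfl hn₁.1).trans hD)
  have h4 : ⁅H₁, Q⁆ ≤ ⁅H₁, H₁⁆ ⊔ ⁅H₁, H₂⁆ := by
    have hn := le_normalizer_sup hH'n hDn
    refine (commutator_mono le_rfl (hQc.trans hprod.ge)).trans
      (commutator_sup_right_le (hn₁.1.trans hn) (hn₂.1.trans hn) le_sup_left le_sup_right)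
  have h5 : K₁ ≤ ⁅H₁, H₁⁆ := by
    refine hres _ (hOc.trans hH'n) ?_
    have hn := le_normalizer_sup hH'n hcO
    refine h1.ge.trans ((commutator_mono ((h1.ge.trans (commutator_mono hKH le_rfl)).trans h4)
      le_rfl).trans (commutator_sup_left_le (hH'c.trans hn) (hDc.trans hn) ?_ ?_))
    · exact (comm_le_left (hQc.trans hH'n)).trans le_sup_left
    · exact ((commutator_mono le_rfl hQc).trans hD).trans le_sup_right
  have h6 : ⁅K₁, H₂⁆ ≤ O := by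
    rw [commutator_comm]; exact (commutator_mono le_rfl h5).trans h3
  have hOK : O ≤ Nm(K₁) := by
    have := h.pCoreOf_le_Nm (hQc.trans le_normalizer)
    rw [hK₁]
    exact (le_Nm_nclo this (le_normalizer_sup (hOc.trans hn₁.2) this)).trans
      (normalizer_le_normalizer_pResidualOf _)
  have h7 : Hc ≤ Nm(K₁) := by
    rw [← hprod]
    refine sup_le hHK ?_
    have := (le_Nm_sup_of_comm_le (hn₂.1.trans hcO) (h6.trans le_sup_right)).trans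
      (normalizer_le_normalizer_pResidualOf (p := p) _)
    rwa [pResidualOf_sup_of_isPGroup hOp hOK, hidem] at this
  refine ⟨⟨h1, le_antisymm (comm_le_left hHK) ?_, h5, h7⟩, hKH, h6,
    h2 ▸ le_sup_left.trans (right_le_Nm_nclo _ _)⟩
  have hn' : Hc ≤ Nm(⁅K₁, H₁⁆) := le_normalizer_commutator h7 hn₁.2
  have hn := le_normalizer_sup hn' hcO
  refine hres _ (hOc.trans hn') (h1.ge.trans ((commutator_mono le_rfl (hQc.trans hprod.ge)).trans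
    (commutator_sup_right_le (hn₁.1.trans hn) (hn₂.1.trans hn) le_sup_left (h6.trans le_sup_right))))

/-- Let Q be a nontrivial p-subgroup of the finite group H that is a weakly closed subgroup, H° the weak closure of Q in H (generated by the conjugates of Q) and H_∘ = O^p(H°). Suppose H₁, H₂ are normal subgroups of H° with H° = H₁H₂ and [H₁, H₂] ≤ N_H(Q), and put Kᵢ = O^p of the weak closure of Q in HᵢQ. Then for i = 1, 2: Kᵢ = [Kᵢ, Q] = [Kᵢ, Hᵢ] ≤ Hᵢ′ and Kᵢ is normal in H°; H_∘ = K₁K₂; and [K₁, K₂] ≤ O_p(H°). -/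
theorem result {G : Type*} [Group G] [Finite G] {p : ℕ} [Fact p.Prime] (Q : Subgroup G) (hQp : IsPGroup p ↥Q) (hQ1 : Q ≠ ⊥) (hwc : Cfsg.IsWeaklyClosedSubgroup p Q) (Hc : Subgroup G) (hHc : Hc = Cfsg.weakClosure Q ⊤) (H₁ H₂ : Subgroup G) (hn₁ : H₁ ≤ Hc ∧ Hc ≤ Subgroup.normalizer ((H₁ : Subgroup G) : Set G)) (hn₂ : H₂ ≤ Hc ∧ Hc ≤ Subgroup.normalizer ((H₂ : Subgroup G) : Set G)) (hprod : H₁ ⊔ H₂ = Hc) (hcomm : ⁅H₁, H₂⁆ ≤ Subgroup.normalizer ((Q : Subgroup G) : Set G)) (K₁ K₂ : Subgroup G) (hK₁ : K₁ = ((Cfsg.pResidual p ↥(Cfsg.weakClosure Q (H₁ ⊔ Q))).map ((Cfsg.weakClosure Q (H₁ ⊔ Q))).subtype)) (hK₂ : K₂ = ((Cfsg.pResidual p ↥(Cfsg.weakClosure Q (H₂ ⊔ Q))).map ((Cfsg.weakClosure Q (H₂ ⊔ Q))).subtype)) : (⁅K₁, Q⁆ = K₁ ∧ ⁅K₁, H₁⁆ = K₁ ∧ K₁ ≤ ⁅H₁, H₁⁆ ∧ Hc ≤ Subgroup.normalizer ((K₁ : Subgroup G) : Set G)) ∧ (⁅K₂, Q⁆ = K₂ ∧ ⁅K₂, H₂⁆ = K₂ ∧ K₂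 ≤ ⁅H₂, H₂⁆ ∧ Hc ≤ Subgroup.normalizer ((K₂ : Subgroup G) : Set G)) ∧ K₁ ⊔ K₂ = ((Cfsg.pResidual p ↥Hc).map (Hc).subtype) ∧ ⁅K₁, K₂⁆ ≤ (Cfsg.pCoreOf p Hc) := by
  have h := wc_iff.mp hwc
  rw [h.weakClosure_eq le_top] at hHc
  have hK₁' : K₁ = pResidualOf p (nclo Q (H₁ ⊔ Q)) := by rw [← h.weakClosure_eq le_sup_right]; exact hK₁
  have hK₂' : K₂ = pResidualOf p (nclo Q (H₂ ⊔ Q)) := by rw [← h.weakClosure_eq le_sup_right]; exact hK₂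
  obtain ⟨a1, a2, a3, a4⟩ := aux h hHc hn₁ hn₂ hprod hcomm hK₁'
  obtain ⟨b1, b2, b3, b4⟩ := aux h hHc hn₂ hn₁ ((sup_comm _ _).trans hprod)
    ((commutator_comm _ _).le.trans hcomm) hK₂'
  have hQc : Q ≤ Hc := hHc ▸ le_nclo _ _
  refine ⟨a1, b1, le_antisymm (sup_le ?_ ?_) ?_, (commutator_mono le_rfl b2).trans a3⟩
  · exact hK₁' ▸ pResidualOf_mono ((nclo_le_of_le le_sup_right).trans (sup_le hn₁.1 hQc))
  · exact hK₂' ▸ pResidualOf_mono ((nclo_le_of_le le_sup_right).trans (sup_le hn₂.1 hQc))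
  · refine pResidualOf_le_of_le_sup hQp (hQc.trans (le_normalizer_sup a1.2.2.2 b1.2.2.2)) ?_
    have e : Hc = nclo Q Hc := by rw [hHc, h.nclo_nclo le_top]
    refine e.le.trans (nclo_le ?_ le_sup_right)
    rw [← hprod]
    refine sup_le ?_ ?_
    · rw [sup_right_comm]
      exact le_normalizer_sup a4 (hn₁.1.trans b1.2.2.2)
    · rw [sup_assoc]
      exact le_normalizer_sup (hn₂.1.trans a1.2.2.2) b4

end Cfsg.Agent.S2859
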