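import Cfsg.Statements.S2860
import Cfsg.Agent.OD.Pre
import Cfsg.Agent.H7.QSMod

set_option autoImplicit false
set_option linter.unusedVariables false
open Cfsg

namespace Cfsg.Agent.S2860

open Subgroup CfH7 CfH9
open scoped commutatorElement


/-- Let Q be a nontrivial large p-subgroup of the finite group H, U a nontrivial elementary abelian p-subgroup of H, and Q ≤ E ≤ N_H(U) with Q not normal in E. Suppose O_p(E/C_E(U)) = 1 and O^p(E)·C_E(U)/C_E(U) is quasisimple. Let E° be the weak closure of Q in E (generated by the conjugates of Q inside E) and E_∘ = O^p(E°). Then O^p(E)·C_E(U) = E_∘·C_E(U); E_∘ is perfect and equals O^p(E_∘); E_∘/C_{E_∘}(U) and E_∘/O_p(E_∘) are quasisimple; and E_∘ = [E_∘, Y] for every p-subgroup Y of E not centralizing U. -/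
theorem result {G : Type*} [Group G] [Finite G] {p : ℕ} [Fact p.Prime] (Q : Subgroup G) (hQp : IsPGroup p ↥Q) (hQ1 : Q ≠ ⊥) (hQ : Cfsg.IsLarge Q) (U : Subgroup G) (hU : Cfsg.IsElementaryAbelian p U) (hU1 : U ≠ ⊥) (E : Subgroup G) (hQE : Q ≤ E) (hEU : E ≤ Subgroup.normalizer ((U : Subgroup G) : Set G)) (hQn : ¬ E ≤ Subgroup.normalizer ((Q : Subgroup G) : Set G)) [hn : ((Subgroup.centralizer ((U : Subgroup G) : Set G)).subgroupOf E).Normal] (hred : Cfsg.pCore p (↥E ⧸ (Subgroup.centralizer ((U : Subgroup G) : Set G)).subgroupOf E) = ⊥) (hqs : Cfsg.IsQuasisimple ↥(((Cfsg.pResidual p ↥E) ⊔ (Subgroup.centralizer ((U : Subgroup G) : Set G)).subgroupOf E).map (QuotientGroup.mk' ((Subgroup.centralizer ((U : Subgroup G) : Set G)).subgroupOf E)))) (Er : Subgroup G) (hEr : Er = ((Cfsg.pResidual p ↥(Cfsg.weakClosure Q E)).map ((Cfsg.weakClosure Q E)).subtype)) [hn2 : ((Subgroup.centralizer ((U : Subgroup G) : Set G)).subgroupOf Er).Normal] : ((Cfsg.pResidual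 p ↥E).map (E).subtype) ⊔ (E ⊓ Subgroup.centralizer ((U : Subgroup G) : Set G)) = Er ⊔ (E ⊓ Subgroup.centralizer ((U : Subgroup G) : Set G)) ∧ ⁅Er, Er⁆ = Er ∧ ((Cfsg.pResidual p ↥Er).map (Er).subtype) = Er ∧ Cfsg.IsQuasisimple (↥Er ⧸ (Subgroup.centralizer ((U : Subgroup G) : Set G)).subgroupOf Er) ∧ Cfsg.IsQuasisimple (↥Er ⧸ Cfsg.pCore p ↥Er) ∧ ∀ Y : Subgroup G, Y ≤ E → IsPGroup p ↥Y → ¬ Y ≤ Subgroup.centralizer ((U : Subgroup G) : Set G) → ⁅Er, Y⁆ = Er := by
  have hw := large_wc hQ hQp hQ1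
  have hUp := elemAb_isPGroup hU
  have hEr' : Er = pResidualOf p (nclo Q E) := by rw [← hw.weakClosure_eq hQE]; exact hEr
  have hred' := redOn_iff_quotient.mpr hred
  have hR : QSmod (pResidualOf p E) Cz(U) := by
    rw [Subgroup.map_sup, (CfH1.map_mk'_eq_bot_iff _ _).mpr le_rfl, sup_bot_eq, qs_map_iff,
      QuotientGroup.ker_mk'] at hqs
    exact (qsmod_map_iff_of_injective E.subtype_injective).mpr hqs
  change pResidualOf p E ⊔ _ = _ ∧ _ ∧ pResidualOf p Er = Er ∧ _
  set R := pResidualOf p E with hRdef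
  have hEC : E ≤ Nm(Cz(U)) := le_normalizer_centralizer hEU
  have hRE : R ≤ E := pResidualOf_le E
  have hER : E ≤ Nm(R) := le_normalizer_pResidualOf E
  have key : ∀ Y, Y ≤ E → IsPGroup p Y → ¬ Y ≤ Cz(U) → R ≤ ⁅R, Y⁆ ⊔ (R ⊓ Cz(U)) := by
    intro Y h1 h2 h3
    refine (hR.simp _ (comm_le_left (h1.trans hER)) (left_le_Nm_comm _ _)).resolve_left fun e => h3 ?_
    refine hred'.le_Cz_of_commutator_le hEU h2 h1 ?_
    rw [commutator_comm R Y] at e ⊢
    exact hR.commutator_le (hRE.trans hEC) (h1.trans hEC)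
      ((commutator_mono le_rfl inf_le_right).trans (comm_le_right (h1.trans hEC))) e
  have hQC : ¬ Q ≤ Cz(U) := fun e => hQn (hEU.trans (hQ.2 U (le_Cz_comm e) hU1))
  obtain ⟨h1, h2⟩ := hw.commutator_res_nclo hQE
  rw [← hEr'] at h1 h2
  have hErR : Er ≤ R := hEr' ▸ pResidualOf_mono (nclo_le_of_le hQE)
  have hEEr : E ≤ Nm(Er) := hEr' ▸ (right_le_Nm_nclo _ _).trans (normalizer_le_normalizer_pResidualOf _)
  have hidem : pResidualOf p Er = Er := hEr' ▸ pResidualOf_pResidualOf _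
  have hRC : E ≤ Nm(R ⊓ Cz(U)) := le_normalizer_inf hER hEC
  have h3 : R ≤ Er ⊔ (R ⊓ Cz(U)) := by
    refine pResidualOf_le_of_le_sup' hQp (hQE.trans (le_normalizer_sup hEEr hRC))
      ((key Q hQE hQp hQC).trans (sup_le ?_ (le_sup_right.trans le_sup_left)))
    rw [sup_right_comm, h2, commutator_comm]
    exact ((commutator_mono le_rfl hRE).trans (commutator_le_nclo Q E)).trans le_sup_left
  have hK := hR.of_le_sup (hRE.trans hEC) hErR h3
  have hO : ⁅Er ⊓ Cz(U), nclo Q E⁆ ≤ pCoreOf p Er := by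
    have h4 := (large_commutator_nclo_Cz hQ hQp hUp hU1 hQE hEU).trans inf_le_right
    refine le_trans (le_inf ((commutator_mono inf_le_left le_rfl).trans
      (comm_le_left ((nclo_le_of_le hQE).trans hEEr))) ?_)
      (inf_pCoreOf_le (le_sup_left.trans h2.le))
    rw [commutator_comm]
    exact (commutator_mono le_rfl inf_le_right).trans h4
  have hOn : E ≤ Nm(pCoreOf p Er) := hEEr.trans (normalizer_le_normalizer_pCoreOf _)
  have hErE := hErR.trans hRE
  have key2 : ∀ N A, A ≤ nclo Q E → ⁅Er, A⁆ = Er → N ≤ Er → Er ≤ Nm(N) → A ≤ Nm(N) →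
      Er ≤ N ⊔ (Er ⊓ Cz(U)) → Er ≤ N := by
    intro N A a1 a2 a3 a4 a5 a6
    have a7 : Er ≤ Nm(N ⊔ pCoreOf p Er) := le_normalizer_sup a4 (hErE.trans hOn)
    rw [← hidem]
    refine pResidualOf_le_of_le_sup (isPGroup_pCoreOf Er) ((pCoreOf_le Er).trans a4)
      (a2.ge.trans ((commutator_mono a6 le_rfl).trans (commutator_sup_left_le (a3.trans a7)
        (inf_le_left.trans a7) ((comm_le_left a5).trans le_sup_left)
        (((commutator_mono le_rfl a1).trans hO).trans le_sup_right))))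
  have hperf : ⁅Er, Er⁆ = Er := le_antisymm (commutator_self_le Er)
    (key2 _ Q (le_nclo _ _) h1 (commutator_self_le Er) (left_le_Nm_comm _ _)
      (hQE.trans (le_normalizer_commutator hEEr hEEr)) hK.perf)
  have hErn : Er ≤ nclo Q E := le_sup_left.trans h2.le
  refine ⟨le_antisymm (sup_le (h3.trans (sup_le_sup_left (inf_le_inf_right _ hRE) _)) le_sup_right)
    (sup_le_sup_right hErR _), hperf, hidem, qs_quotient_iff.mpr hK, qs_quotient_iff'.mpr
      (hK.of_central hperf (le_normalizer_pCoreOf Er) (inf_le_right.trans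
        (hred'.of_isPGroup ((pCoreOf_le Er).trans hErE) hOn (isPGroup_pCoreOf Er)))
        ((commutator_mono le_rfl hErn).trans hO)), fun Y a1 a2 a3 => ?_⟩
  have a4 : ⁅Er, Y⁆ ≤ Er := comm_le_left (a1.trans hEEr)
  refine le_antisymm a4 (key2 _ Er hErn hperf a4 (left_le_Nm_comm _ _) (left_le_Nm_comm _ _) ?_)
  refine (hK.simp _ a4 (left_le_Nm_comm _ _)).resolve_left fun e => a3 ?_
  refine hred'.le_Cz_of_commutator_le hEU a2 a1 ?_
  have a5 : ⁅Y, Er⁆ ≤ Cz(U) := hK.commutator_le (hErE.trans hEC) (a1.trans hEC)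
    ((commutator_mono le_rfl inf_le_right).trans (comm_le_right (a1.trans hEC)))
    (by rwa [commutator_comm Y])
  rw [commutator_comm]
  exact (commutator_mono le_rfl h3).trans (commutator_sup_right_le (hErE.trans hEC)
    ((inf_le_left.trans hRE).trans hEC) a5
    ((commutator_mono le_rfl inf_le_right).trans (comm_le_right (a1.trans hEC))))

end Cfsg.Agent.S2860
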