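import Cfsg.Statements.S2861
import Cfsg.Agent.OD.Pre
import Cfsg.Agent.H7.FrL2

set_option autoImplicit false
set_option linter.unusedVariables false
open Cfsg

namespace Cfsg.Agent.S2861

open Subgroup CfH7 CfH9
open scoped commutatorElement


/-- Standing hypotheses: G a finite group, S a Sylow p-subgroup, Q a nontrivial large p-subgroup of G contained in S, M a subgroup containing S with the basic property (M ∈ 𝔐_G(S)); Y_M the largest p-reduced normal subgroup of M and M† = M·C_G(Y_M). Let L ∈ 𝔏_G(Y_M) (L ∈ 𝔏_G(Y_M): Y_M ≤ L; O_p(L) is the normal closure in L of Y_M ∩ O_p(L) and normalizes Y_M; L is Y_M-minimal of characteristic p with N_L(Y_M) its unique maximal subgroup over Y_M; and L/O_p(L) ≅ SL₂(q) with q = |Y_M : Y_M ∩ O_p(L)|, or p = 2 and L/O_p(L) is a Suzuki group Sz(q) or dihedral of order 2r, r an odd prime) and A = O_p(L). Then Y_M·A/A is the unique nontrivial elementary abelian normal p-subgroup of N_L(Y_M)/A. -/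
theorem result {G : Type*} [Group G] [Finite G] {p : ℕ} [Fact p.Prime] (S : Sylow p G) (Q : Subgroup G) (hQp : IsPGroup p ↥Q) (hQ1 : Q ≠ ⊥) (hQS : Q ≤ (S : Subgroup G)) (hQ : Cfsg.IsLarge Q) (M : Subgroup G) (hSM : (S : Subgroup G) ≤ M) (hM : Cfsg.IsInFrakM p M) (L : Subgroup G) (hL : Cfsg.IsInFrakL p M L) (NL : Subgroup G) (hNL : NL = L ⊓ Subgroup.normalizer (((Cfsg.largestPReducedOf p M) : Subgroup G) : Set G)) [hn : (((Cfsg.pCoreOf p L)).subgroupOf NL).Normal] : let Ybar : Subgroup (↥NL ⧸ ((Cfsg.pCoreOf p L)).subgroupOf NL) := (((Cfsg.largestPReducedOf p M)).subgroupOf NL).map (QuotientGroup.mk' (((Cfsg.pCoreOf p L)).subgroupOf NL)); Ybar ≠ ⊥ ∧ Ybar.Normal ∧ Cfsg.IsElementaryAbelian p Ybar ∧ ∀ (V : Subgroup (↥NL ⧸ ((Cfsg.pCoreOf p L)).subgroupOf NL)), V.Normal → Cfsg.IsElementaryAbelian p V → V ≠ ⊥ → V = Ybar := by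
  obtain ⟨h, -, c⟩ := frakL_main hL
  have h1 := hL.1
  have h3 := hL.2.2.1
  intro Ybar
  set Y := largestPReducedOf p M
  have hNL' : NL ≤ L := hNL ▸ inf_le_left
  have hY : Y ≤ NL := hNL ▸ le_inf h1 le_normalizer
  have hA : pCoreOf p L ≤ NL := hNL ▸ le_inf (pCoreOf_le L) h3
  have eN : Nm(Y.subgroupOf L) = NL.subgroupOf L := by
    rw [← subgroupOf_normalizer_eq h1, hNL, inf_subgroupOf_left]
  have e1 : ∀ X : Subgroup G, X ≤ NL → (X.subgroupOf NL).map (inclusion hNL') = X.subgroupOf L :=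
    fun X hX => map_injective L.subtype_injective (by
      rw [map_map, subtype_comp_inclusion, map_subgroupOf_eq_of_le hX,
        map_subgroupOf_eq_of_le (hX.trans hNL')])
  have e2 : ∀ x : NL, QuotientGroup.mk' ((pCoreOf p L).subgroupOf NL) x = 1 ↔
      inclusion hNL' x ∈ pCore p L := fun x => by
    rw [← subgroupOf_pCoreOf]
    exact QuotientGroup.eq_one_iff _
  refine ⟨fun e => h.not_le ?_, Subgroup.Normal.map (normal_subgroupOf_of_le_normalizer
    (hNL ▸ inf_le_right)) _ (QuotientGroup.mk'_surjective _),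
    elemAb_map (elemAb_subgroupOf (elemAb_Y M) _) _, fun V n1 n2 n3 => ?_⟩
  · rw [← e1 Y hY, ← subgroupOf_pCoreOf, ← e1 _ hA]
    exact map_mono ((CfH1.map_mk'_eq_bot_iff _ _).1 e)
  · have k := c ((V.comap (QuotientGroup.mk' _)).map (inclusion hNL'))
      (by rw [eN, ← e1 NL le_rfl, subgroupOf_self]; exact map_mono le_top)
      (by rw [eN, ← e1 NL le_rfl]; exact CfLp.map_le_Nm (le_Nm_normal _ _))
      (by
        rintro _ ⟨a, ha, rfl⟩ _ ⟨b, hb, rfl⟩
        rw [← map_commutatorElement, ← e2, map_commutatorElement]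
        exact CfLp.comm_eq_one (elemAb_le_Cz n2 ha) hb)
      (by
        rintro _ ⟨a, ha, rfl⟩
        rw [← map_pow, ← e2, map_pow]
        exact n2.2 _ ha)
      fun e => n3 (eq_bot_iff.2 fun v hv => by
        obtain ⟨x, rfl⟩ := QuotientGroup.mk'_surjective _ v
        exact (e2 x).2 (e (mem_map_of_mem _ hv)))
    rw [← e1 Y hY, ← subgroupOf_pCoreOf, ← e1 _ hA, ← Subgroup.map_sup, ← Subgroup.map_sup] at k
    have k' := congrArg (Subgroup.map (QuotientGroup.mk' ((pCoreOf p L).subgroupOf NL)))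
      (map_injective (inclusion_injective _) k)
    rwa [Subgroup.map_sup, Subgroup.map_sup, (CfH1.map_mk'_eq_bot_iff _ _).2 le_rfl, sup_bot_eq,
      sup_bot_eq, map_comap_eq_self_of_surjective (QuotientGroup.mk'_surjective _)] at k'

end Cfsg.Agent.S2861
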