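import Cfsg.Statements.S2862
import Cfsg.Agent.OD.Pre
import Cfsg.Agent.H7.FrakM
import Cfsg.Agent.S2833

set_option autoImplicit false
set_option linter.unusedVariables false
open Cfsg

namespace Cfsg.Agent.S2862

open Subgroup CfH7 CfH9
open scoped commutatorElement

theorem exists_uMax_of_zipper {G : Type*} [Group G] [Finite G] {A L : Subgroup G} (hAL : A ≤ L)
    (h : ∀ X, A ≤ X → X < L → SubnIn A X) (hA : ¬ SubnIn A L) : ∃ M, UMax A L M := by
  obtain ⟨M, h1, h2, h3⟩ := CfH1.zipper (A := A.subgroupOf L) (fun X hX hAX => by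
    have h1 : A ≤ X.map L.subtype := (map_subgroupOf_eq_of_le hAL).ge.trans (map_mono hAX)
    have h2 := (h _ h1 (lt_of_le_of_ne (map_subtype_le _) fun e => hX
      (map_injective L.subtype_injective (e.trans (map_subtype_top L).symm)))).subgroupOf L
    rwa [subgroupOf_map_subtype_self] at h2) (fun e => hA ⟨hAL, e⟩)
  have h4 : UMax (A.subgroupOf L) ⊤ M := ⟨h2, lt_top_iff_ne_top.mpr h1, fun X h5 h6 => h3 X h6.ne h5⟩
  have := (UMax.map_iff L.subtype_injective).mpr h4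
  rw [map_subgroupOf_eq_of_le hAL, map_subtype_top] at this
  exact ⟨_, this⟩

theorem commutator_sup_eq {G : Type*} [Group G] [Finite G] {V A B : Subgroup G} (hA : A ≤ Nm(V))
    (hB : B ≤ Nm(V)) : ⁅V, A ⊔ B⁆ = ⁅V, A⁆ ⊔ ⁅V, B⁆ := by
  have hU : ⁅V, A⁆ ⊔ ⁅V, B⁆ ≤ V := sup_le (comm_le_left hA) (comm_le_left hB)
  exact le_antisymm (commutator_sup_right_le
      (le_Nm_of_comm_le_left ((commutator_mono hU le_rfl).trans le_sup_left))
      (le_Nm_of_comm_le_left ((commutator_mono hU le_rfl).trans le_sup_right))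
      le_sup_left le_sup_right)
    (sup_le (commutator_mono le_rfl le_sup_left) (commutator_mono le_rfl le_sup_right))

/-- Standing hypotheses: G a finite group, S a Sylow p-subgroup, Q a nontrivial large p-subgroup of G contained in S, M a subgroup containing S with the basic property (M ∈ 𝔐_G(S)); Y_M the largest p-reduced normal subgroup of M and M† = M·C_G(Y_M). Suppose Y_M is char-p-tall and asymmetric in G, H ∈ ℌ_G(O_p(M)), and L is minimal among the subgroups of H containing Y_M with Y_M ≰ O_p(L). Then H = ⟨L, O_p(M)⟩ = ⟨hY_Mh⁻¹, O_p(M)⟩ for every h ∈ L outside N_L(Y_M); L is Y_M-minimal and of characteristic p, with N_L(Y_M) the unique maximal subgroup of L containing Y_M; [V, O^p(L)] ≠ 1 for every noncentral chief factor V/W of H inside O_p(H) (that is, O^p(L) does not act trivially on V/W); and the normal closure of O_p(L) ∩ Y_M in L lies in O_p(H). -/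
theorem result {G : Type*} [Group G] [Finite G] {p : ℕ} [Fact p.Prime] (S : Sylow p G) (Q : Subgroup G) (hQp : IsPGroup p ↥Q) (hQ1 : Q ≠ ⊥) (hQS : Q ≤ (S : Subgroup G)) (hQ : Cfsg.IsLarge Q) (M : Subgroup G) (hSM : (S : Subgroup G) ≤ M) (hM : Cfsg.IsInFrakM p M) (htall : Cfsg.IsCharPTall p (Cfsg.largestPReducedOf p M)) (hasym : ¬ Cfsg.IsSymmetricIn (Cfsg.largestPReducedOf p M)) (H : Subgroup G) (hH : Cfsg.IsInFrakH p M H) (L : Subgroup G) (hLH : L ≤ H) (hYL : (Cfsg.largestPReducedOf p M) ≤ L) (hYO : ¬ (Cfsg.largestPReducedOf p M) ≤ (Cfsg.pCoreOf p L)) (hmin : ∀ L' : Subgroup G, L' ≤ L → (Cfsg.largestPReducedOf p M) ≤ L' → ¬ (Cfsg.largestPReducedOf p M) ≤ (Cfsg.pCoreOf p L') → L' = L) : (L ⊔ (Cfsg.pCoreOf p M) = H ∧ ∀ h ∈ L, h ∉ Subgroup.normalizer (((Cfsg.largestPReducedOf p M) : Subgroup G) : Set G) → (((Cfsg.largestPReducedOf p M) : Subgroup G).map (MulAut.conj (h : G)).toMonoidHom) ⊔ (Cfsg.pCoreOf p M) = H) ∧ (Cfsg.IsMinimalOver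 (((Cfsg.largestPReducedOf p M)).subgroupOf L) ∧ Subgroup.centralizer (Cfsg.pCore p ↥L : Set ↥L) ≤ Cfsg.pCore p ↥L ∧ L ⊓ Subgroup.normalizer (((Cfsg.largestPReducedOf p M) : Subgroup G) : Set G) < L ∧ ∀ X : Subgroup G, (Cfsg.largestPReducedOf p M) ≤ X → X < L → X ≤ L ⊓ Subgroup.normalizer (((Cfsg.largestPReducedOf p M) : Subgroup G) : Set G)) ∧ (∀ V W' : Subgroup G, V ≤ (Cfsg.pCoreOf p H) → H ≤ Subgroup.normalizer ((V : Subgroup G) : Set G) → H ≤ Subgroup.normalizer ((W' : Subgroup G) : Set G) → W' < V → (∀ Z' : Subgroup G, H ≤ Subgroup.normalizer ((Z' : Subgroup G) : Set G) → W' ≤ Z' → Z' ≤ V → Z' = W' ∨ Z' = V) → ¬ ⁅V, H⁆ ≤ W' → ¬ ⁅V, ((Cfsg.pResidual p ↥L).map (L).subtype)⁆ ≤ W') ∧ (Subgroup.normalClosure (((((Cfsg.pCoreOf p L) ⊓ (Cfsg.largestPReducedOf p M)).subgroupOf L : Subgroup ↥L)) : Set ↥L)).map L.subtype ≤ (Cfsg.pCoreOf p H) := by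
  have h : FH p S M H := ⟨fm_of_large S hQ hQp hSM hM, asym_of_not _ hasym, hH⟩
  rw [map_normalClosure_subgroupOf (inf_le_right.trans hYL), isMinimalOver_subgroupOf_iff hYL]
  change _ ∧ _ ∧ (∀ V W' : Subgroup G, _ → _ → _ → _ → _ → _ → ¬ ⁅V, pResidualOf p L⁆ ≤ W') ∧ _
  have hOY := pCoreOf_le_Cz_Y (p := p) M
  have hYO' := Y_le_pCoreOf (p := p) M
  have hONY : pCoreOf p M ≤ Nm(largestPReducedOf p M) := hOY.trans (Cz_le_Nm _)
  have hYel := elemAb_Y (p := p) M
  have hYp := isPGroup_Y (p := p) M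
  have hOp := isPGroup_pCoreOf (p := p) M
  have hwc := h.wc h.asym
  have hVY := h.V_le_Nm_Y
  have hNON := h.Nm_O_le_Nm_Y
  have hsup := fun P => h.sup_eq (P := P) hYL hYO
  have hOH := h.O_le
  have hasy := h.asym
  have hchar := h.chPH
  have hVp := isPGroup_pCoreOf (p := p) H
  have hHV := le_normalizer_pCoreOf (p := p) H
  have hVH := pCoreOf_le (p := p) H
  set Y := largestPReducedOf p M with hY
  set O := pCoreOf p M with hO
  set V := pCoreOf p H with hV
  have hYC : Y ≤ Cz(Y) := hYO'.trans hOY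
  have hlt : ∀ X, Y ≤ X → X < L → Y ≤ pCoreOf p X := fun X h1 h2 => by
    by_contra e
    exact h2.ne (hmin X h2.le h1 e)
  have hclo : nclo Y L = L := hmin _ (nclo_le_of_le hYL) (le_nclo _ _) fun e => hYO
    (e.trans (pCoreOf_le_pCoreOf_of_normal (nclo_le_of_le hYL) (right_le_Nm_nclo _ _)))
  obtain ⟨L₀, hU⟩ := exists_uMax_of_zipper hYL (fun X h1 h2 =>
    (subnIn_of_isPGroup (isPGroup_pCoreOf X) (hlt X h1 h2)).trans
      (subnIn_of_normal (pCoreOf_le X) (le_normalizer_pCoreOf X)))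
    (fun e => hYO (e.le_pCoreOf hYp))
  have hmo : MinOver Y L L₀ := ⟨hU, hclo⟩
  have hLV : L ≤ Nm(V) := hLH.trans hHV
  set U := ⁅V, Y⁆ with hUdef
  have hUY : U ≤ Y := comm_le_right hVY
  have hUV : U ≤ V := comm_le_left (hYL.trans hLV)
  have hVU : V ≤ Nm(U) := left_le_Nm_comm _ _
  have hcjU : ∀ g ∈ H, cj g U = ⁅V, cj g Y⁆ := fun g hg => by
    rw [hUdef, cj_commutator, cj_eq_of_mem_normalizer (hHV hg)]
  have hgen : ∀ g ∈ L, g ∉ L₀ → O ⊔ cj g Y = H := fun g hg hg' =>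
    hsup _ ((hmo.sup_cj hg hg').ge.trans (sup_le_sup_right hYO' _)) le_sup_left
      (sup_le hOH ((cj_le_of_mem hYL hg).trans hLH))
  obtain ⟨g, hg, hg'⟩ := SetLike.exists_of_lt hU.lt
  have hVL : V ≤ Nm(L) := by
    have hn : L ≤ Nm(V ⊓ L) := le_normalizer_inf hLV le_normalizer
    refine le_Nm_of_comm_le_right (le_trans ?_ (inf_le_right : V ⊓ L ≤ L))
    conv_lhs => rw [← hclo]
    exact commutator_nclo_le hLV hn (hYL.trans hn) (le_inf hUV (hUY.trans hYL))
  have hLchar : ChP p L := (charP_subgroupOf_iff hLH).mp (charP_of_pCore_le_normalizer hchar (by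
    rw [← subgroupOf_pCoreOf]
    exact (comap_mono hVL).trans (le_normalizer_comap _)))
  set V₁ := ⁅V, H⁆ with hV₁
  have hV₁V : V₁ ≤ V := comm_le_left hHV
  have hHV₁ : H ≤ Nm(V₁) := right_le_Nm_comm _ _
  set C₁ := V₁ ⊓ Cz(Y) with hC₁
  have hUC₁ : U ≤ C₁ := le_inf (commutator_mono le_rfl (hYL.trans hLH)) (hUY.trans hYC)
  have hVO : ⁅V, O⁆ ≤ C₁ := by
    refine le_inf (commutator_mono le_rfl hOH) (comm_eq_bot_left.mp ?_)
    refine commutator_commutator_eq_bot_of_rotate ?_ ?_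
    · rw [comm_eq_bot_left.mpr hOY, commutator_bot_left]
    · rw [commutator_comm Y V]
      exact comm_eq_bot_right.mpr (hOY.trans (Cz_anti hUY))
  have hV₁le : ∀ g ∈ L, g ∉ L₀ → V₁ ≤ C₁ ⊔ cj g U := fun g hg hg' => by
    rw [hV₁, ← hgen g hg hg', commutator_sup_eq (hOH.trans hHV)
      ((cj_le_of_mem hYL hg).trans hLV), hcjU g (hLH hg)]
    exact sup_le_sup_right hVO _
  have hC₁le : C₁ ≤ U ⊔ (V ⊓ Cz(L)) := by
    have h1 := cj_mono g (hV₁le g⁻¹ (inv_mem hg) (fun e => hg' (inv_mem_iff.mp e)))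
    rw [cj_eq_of_mem_normalizer (hHV₁ (hLH hg)), cj_sup, cj_cj_inv, sup_comm] at h1
    have h2 : cj g C₁ ≤ V := cj_le_of_mem_Nm (inf_le_left.trans hV₁V) (hLV hg)
    have h3 := inf_sup_dedekind (Or.inr (h2.trans hVU)) hUC₁
    rw [inf_eq_right.mpr (inf_le_left.trans h1)] at h3
    refine h3.le.trans (sup_le_sup_left (le_inf (inf_le_left.trans h2) ?_) _)
    rw [← hmo.sup_cj hg hg', Cz_sup, inf_comm, ← cj_centralizer]
    exact inf_le_inf inf_le_right (cj_mono g inf_le_right)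
  have hOU : O ≤ Nm(U) := le_normalizer_commutator (hOH.trans hHV) hONY
  have hOC₁ : O ≤ Nm(C₁) := le_normalizer_inf (hOH.trans hHV₁) (le_normalizer_centralizer hONY)
  have key1 : L ⊓ Nm(U) ≤ Nm(Y) := by
    set X₀ := L ⊓ Nm(U) with hX₀
    have h1 : ⁅C₁, X₀⁆ ≤ U := (commutator_mono hC₁le le_rfl).trans
      (commutator_sup_left_le le_normalizer (inf_le_left.trans hVU) (comm_le_left inf_le_right)
        ((comm_eq_bot_left.mpr (inf_le_right.trans (Cz_anti inf_le_left))).le.trans bot_le))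
    have hXC : X₀ ≤ Nm(C₁) := le_Nm_of_comm_le_left (h1.trans hUC₁)
    have hXK : X₀ ≤ secCz C₁ U := le_secCz inf_le_right h1
    have hOK : O ≤ Nm(secCz C₁ U) := le_Nm_secCz hOC₁ hOU
    have h2 : nclo O X₀ ≤ secCz C₁ U ⊔ O :=
      (nclo_le_sup _ _).trans (sup_le le_sup_right (hXK.trans le_sup_left))
    have hXH : nclo O X₀ ≤ H := (nclo_le_sup _ _).trans (sup_le hOH (inf_le_left.trans hLH))
    have h3 : pResidualOf p (nclo O X₀) ≤ Cz(C₁) :=
      pResidualOf_le_Cz_of_le' (M := U) (hVp.to_le (inf_le_left.trans hV₁V))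
        ((nclo_le_sup _ _).trans (sup_le hOC₁ hXC))
        (commutator_le_of_le_secCz (pResidualOf_le_of_le_sup hOp hOK h2))
        ((pResidualOf_le _).trans (nclo_le_Cz inf_le_right (hOY.trans (Cz_anti hUY))))
    have h4 : pResidualOf p (nclo O X₀) ≤ Cz(V) :=
      pResidualOf_le_Cz_of_le' (M := C₁) hVp (hXH.trans hHV)
        ((commutator_mono le_rfl (pResidualOf_le _)).trans
          (commutator_nclo_le (inf_le_left.trans hLV) hXC hOC₁ hVO)) h3
    exact (right_le_Nm_nclo _ _).trans ((hwc.Nm_le (hchar.isPGroup_of_pResidualOf_le hXH h4)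
      (le_nclo _ _)).trans hNON)
  have hW := (Cfsg.Agent.S2833.result V L hLV Y hYL g hg
    (comm_eq_bot_left.mpr (hUY.trans hYC)) (hmo.sup_cj hg hg') _ rfl).2.1
  have key2 : ∀ R, Y ≤ R → R ≤ Nm(Y) → L ⊓ Nm(R) ≤ Nm(Y) := fun R h1 h2 x hx => by
    refine key1 (mi hx.1 (inv_mem_iff.mp (mem_normalizer_of_cj_le ?_)))
    have h3 := elemAb_le_Cz (hasy.elemAb_nclo hYel h1 h2)
    refine le_trans (le_inf (cj_le_of_mem_Nm (commutator_mono le_rfl hYL)
      (right_le_Nm_comm V L (inv_mem hx.1))) ?_) hW.le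
    exact (((cj_mono _ hUY).trans (cj_le_nclo (inv_mem hx.2))).trans h3).trans
      (Cz_anti (le_nclo _ _))
  have hL₀ : L₀ ≤ Nm(Y) := by
    have h1 := hlt L₀ hU.le hU.lt
    have h2 : pCoreOf p L₀ ≤ Nm(Y) := by
      by_contra e
      have h3 : pCoreOf p L₀ ⊓ Nm(Y) < pCoreOf p L₀ :=
        lt_of_le_of_ne inf_le_left fun e' => e (inf_eq_left.mp e')
      refine (lt_inf_Nm (isPGroup_pCoreOf L₀) h3).not_ge (le_inf inf_le_left ?_)
      exact (inf_le_inf_right _ ((pCoreOf_le L₀).trans hU.lt.le)).trans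
        (key2 _ (le_inf h1 le_normalizer) inf_le_right)
    exact (le_inf hU.lt.le (le_normalizer_pCoreOf L₀)).trans (key2 _ h1 h2)
  have hL₀eq : L ⊓ Nm(Y) = L₀ := le_antisymm (hmo.inf_Nm_le le_rfl hU.le) (le_inf hU.lt.le hL₀)
  have hLO : L ⊔ O = H := hsup _ le_sup_left le_sup_right (sup_le hLH hOH)
  refine ⟨⟨hLO, fun x hx hx' => ?_⟩, ⟨⟨_, hmo⟩, hLchar, hL₀eq ▸ hU.lt, hL₀eq ▸ hU.max⟩,
    fun V' W' h1 h2 h3 h4 h5 h6 h7 => ?_, ?_⟩
  · rw [sup_comm]; exact hgen x hx fun e => hx' (hL₀ e)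
  · have hK : H ≤ Nm(H ⊓ secCz V' W') := le_normalizer_inf le_normalizer (le_Nm_secCz h2 h3)
    have hR : pResidualOf p L ≤ H ⊓ secCz V' W' := le_inf ((pResidualOf_le L).trans hLH)
      (le_secCz (((pResidualOf_le L).trans hLH).trans h3) h7)
    have h8 : (H ⊓ secCz V' W') ⊔ O = H := hsup _
      ((hmo.pResidualOf_sup (p := p)).ge.trans (sup_le_sup hR hYO')) le_sup_right
      (sup_le inf_le_left hOH)
    have hV'H : V' ≤ H := h1.trans hVH
    have hn : H ≤ Nm(W' ⊔ ⁅V', H⁆) := le_normalizer_sup h3 (right_le_Nm_comm _ _)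
    rcases h5 _ hn le_sup_left (sup_le h4.le (comm_le_left h2)) with e | e
    · exact h6 (le_sup_right.trans e.le)
    · refine h4.not_ge (le_of_le_sup_commutator (hVp.to_le h1) hOp (hOH.trans h2) (hOH.trans h3)
        (hV'H.trans h3) (e.ge.trans (sup_le le_sup_left ?_)))
      have hle : W' ⊔ ⁅V', O⁆ ≤ V' := sup_le h4.le (comm_le_left (hOH.trans h2))
      conv_lhs => rw [← h8]
      refine commutator_sup_right_le (le_Nm_of_comm_le_left ?_) (le_Nm_of_comm_le_left ?_)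
        ((commutator_le_of_le_secCz inf_le_right).trans le_sup_left) le_sup_right
      · exact ((commutator_mono hle le_rfl).trans
          (commutator_le_of_le_secCz inf_le_right)).trans le_sup_left
      · exact (commutator_mono hle le_rfl).trans le_sup_right
  · set D := pCoreOf p L ⊓ Y with hD
    have hDH : D ≤ H := inf_le_right.trans (hYL.trans hLH)
    have hZn : H ≤ Nm(V ⊓ Cz(H)) := le_normalizer_inf hHV (le_normalizer_centralizer le_normalizer)
    have hDU : D ≤ Nm(cj g U) := by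
      rw [← cj_normalizer]
      refine inf_le_left.trans ((cj_eq_of_mem_normalizer (le_normalizer_pCoreOf L hg)).ge.trans
        (cj_mono g ((hmo.pCoreOf_le hYp).trans ?_)))
      exact le_normalizer_commutator (hU.lt.le.trans hLV) hL₀
    have hgU : cj g U ≤ V := cj_le_of_mem_Nm hUV (hLV hg)
    have h1 : ⁅V₁, D⁆ ≤ V ⊓ Cz(H) := by
      refine (commutator_mono (hV₁le g hg hg') le_rfl).trans (commutator_sup_left_le
        (((inf_le_left.trans hV₁V).trans hVH).trans hZn) ((hgU.trans hVH).trans hZn)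
        ((comm_eq_bot_left.mpr (inf_le_right.trans (Cz_anti inf_le_right))).le.trans bot_le) ?_)
      have h2 : ⁅cj g U, D⁆ ≤ U := commutator_mono hgU inf_le_right
      refine le_inf (h2.trans hUV) ?_
      rw [← hgen g hg hg', Cz_sup, ← cj_centralizer]
      exact le_inf (h2.trans (hUY.trans (le_Cz_comm hOY)))
        ((comm_le_left hDU).trans (cj_mono g (hUY.trans hYC)))
    have hXH : nclo D H ≤ H := nclo_le_of_le hDH
    have h3 : pResidualOf p (nclo D H) ≤ Cz(V₁) := pResidualOf_le_Cz_of_le (M := V ⊓ Cz(H))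
      (hVp.to_le hV₁V) (hXH.trans hHV₁) (commutator_nclo_le hHV₁ hZn (hDH.trans hZn) h1)
      (hXH.trans (le_Cz_comm inf_le_right))
    have h4 : pResidualOf p (nclo D H) ≤ Cz(V) := pResidualOf_le_Cz_of_le' (M := V₁) hVp
      (hXH.trans hHV) (commutator_mono le_rfl ((pResidualOf_le _).trans hXH)) h3
    exact (nclo_mono le_rfl hLH).trans (le_pCoreOf hXH (right_le_Nm_nclo _ _)
      (hchar.isPGroup_of_pResidualOf_le hXH h4))

end Cfsg.Agent.S2862
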