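import Cfsg.Statements.S2864
import Cfsg.Agent.OD.Pre
import Cfsg.Agent.H7.FrakM

set_option autoImplicit false
set_option linter.unusedVariables false
open Cfsg

namespace Cfsg.Agent.S2864

open Subgroup CfH7 CfH9
open scoped commutatorElement


/-- Standing hypotheses: G a finite group, S a Sylow p-subgroup, Q a nontrivial large p-subgroup of G contained in S, M a subgroup containing S with the basic property (M ∈ 𝔐_G(S)); Y_M the largest p-reduced normal subgroup of M and M† = M·C_G(Y_M). Let I be a nontrivial normal p-subgroup of M and Y ≤ O_p(M†); let L be a subgroup of G containing Y and A a normal p-subgroup of L with I ≤ A ≤ M. If [Y, A] ≤ [I, A], then Y ≤ O_p(L). -/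
theorem result {G : Type*} [Group G] [Finite G] {p : ℕ} [Fact p.Prime] (S : Sylow p G) (Q : Subgroup G) (hQp : IsPGroup p ↥Q) (hQ1 : Q ≠ ⊥) (hQS : Q ≤ (S : Subgroup G)) (hQ : Cfsg.IsLarge Q) (M : Subgroup G) (hSM : (S : Subgroup G) ≤ M) (hM : Cfsg.IsInFrakM p M) (I : Subgroup G) (hI1 : I ≠ ⊥) (hIp : IsPGroup p ↥I) (hIM : I ≤ M ∧ M ≤ Subgroup.normalizer ((I : Subgroup G) : Set G)) (Y : Subgroup G) (hY : Y ≤ (Cfsg.pCoreOf p (M ⊔ Subgroup.centralizer (((Cfsg.largestPReducedOf p M) : Subgroup G) : Set G)))) (L : Subgroup G) (hYL : Y ≤ L) (A : Subgroup G) (hAp : IsPGroup p ↥A) (hAL : A ≤ L ∧ L ≤ Subgroup.normalizer ((A : Subgroup G) : Set G)) (hIA : I ≤ A) (hAM : A ≤ M) (hc : ⁅Y, A⁆ ≤ ⁅I, A⁆) : Y ≤ (Cfsg.pCoreOf p L) := by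
  have h := fm_of_large S hQ hQp hSM hM
  induction L using subgroup_induction with
  | h L ih =>
  have hK : nclo Y L ⊔ A ≤ L := sup_le (nclo_le_of_le hYL) hAL.1
  have hKn : L ≤ Nm(nclo Y L ⊔ A) := le_normalizer_sup (right_le_Nm_nclo _ _) hAL.2
  rcases hK.eq_or_lt with e | e
  · have hIL := hIA.trans hAL.1
    have hUA : nclo I L ≤ A := nclo_le hAL.2 hIA
    have hUn : L ≤ Nm(nclo I L) := right_le_Nm_nclo _ _
    have hn : L ≤ Nm(⁅nclo I L, A⁆) := le_normalizer_commutator hUn hAL.2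
    have h1 : ⁅A, nclo Y L⁆ ≤ ⁅nclo I L, A⁆ := commutator_nclo_le hAL.2 hn (hYL.trans hn)
      ((commutator_comm _ _).le.trans (hc.trans (commutator_mono (le_nclo _ _) le_rfl)))
    have h2 : ⁅nclo I L, L⁆ ≤ ⁅nclo I L, A⁆ := by
      conv_lhs => rhs; rw [← e]
      exact commutator_sup_right_le ((nclo_le_of_le hYL).trans hn) (hAL.1.trans hn)
        ((commutator_mono hUA le_rfl).trans h1) le_rfl
    have h3 : nclo I L ≤ I := le_of_le_sup_commutator (hAp.to_le hUA) hAp (hAL.1.trans hUn)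
      (hAM.trans hIM.2) (hUA.trans (hAM.trans hIM.2))
      ((nclo_eq_sup I L).le.trans (sup_le_sup_left ((commutator_mono (le_nclo _ _) le_rfl).trans h2) _))
    have h4 : L ≤ Nm(I) := le_antisymm h3 (le_nclo _ _) ▸ hUn
    exact (le_inf hYL hY).trans (inf_pCoreOf_le (h4.trans (h.Nm_le_dag hIp hI1 hIM.2)))
  · exact (ih _ (card_lt_of_lt e) ((le_nclo _ _).trans le_sup_left)
      ⟨le_sup_right, hK.trans hAL.2⟩).trans (pCoreOf_le_pCoreOf_of_normal hK hKn)

end Cfsg.Agent.S2864
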