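import Cfsg.Statements.S2872
import Cfsg.Agent.OD.Pre
import Cfsg.Agent.H9.Yoshida
import Cfsg.Agent.H7.CharP

set_option autoImplicit false
open Cfsg

namespace Cfsg.Agent.S2872
open Subgroup CfH9 CfH7
open scoped commutatorElement


/-- Let S be a Sylow 2-subgroup of the finite group G. Then G has a proper normal subgroup of 2-power index (O²(G) ≠ G), or Ω₁(Z(S)) is contained in the Frattini subgroup of S, or N_G(S) acts nontrivially on Ω₁(Z(S)) by conjugation. -/
theorem result {G : Type*} [Group G] [Finite G] (S : Sylow 2 G) : Cfsg.pResidual 2 G ≠ ⊤ ∨ Cfsg.omegaOne 2 ((S : Subgroup G) ⊓ Subgroup.centralizer ((S : Subgroup G) : Set G)) ≤ (frattini ↥(S : Subgroup G)).map (S : Subgroup G).subtype ∨ ∃ g ∈ Subgroup.normalizer ((S : Subgroup G) : Set G), ∃ z ∈ Cfsg.omegaOne 2 ((S : Subgroup G) ⊓ Subgroup.centralizer ((S : Subgroup G) : Set G)), g * z * g⁻¹ ≠ z := by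
  by_contra hn
  push Not at hn
  obtain ⟨h1, h2, h3⟩ := hn
  have hS := sylIn_top S
  have hle : omegaOne 2 ((S : Subgroup G) ⊓ Cz((S : Subgroup G))) ≤ S :=
    (omegaOne_le _).trans inf_le_left
  obtain ⟨M, -, hM, h4⟩ : ∃ M : Subgroup G, M ≤ S ∧ M.relIndex S = 2 ∧
      ¬ omegaOne 2 ((S : Subgroup G) ⊓ Cz((S : Subgroup G))) ≤ M := by
    by_contra hn
    push Not at hn
    exact h2 ((CfH1.le_Phi_iff hS.2 hle).2 hn)
  obtain ⟨t, ht, htM⟩ := SetLike.not_le_iff_exists.1 h4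
  have ht' := (mem_omegaOne_iff (comm_inf_Cz _)).1 ht
  obtain ⟨g, h5, h6⟩ := thompson_extremal' hS hM hS.2 (mi1 ht'.1) (le_Cx_iff.2 (mi2 ht'.1)) ht'.2
    fun f hf => addOn_eq_zero_of_index (fun H hH => by
      haveI := H.normal_of_index_eq_two hH
      have h7 : pResidual 2 G ≤ H := pResidual_le_of_isPGroup_quotient (IsPGroup.of_card (n := 1) hH)
      rw [h1, top_le_iff] at h7
      rw [h7, index_top] at hH
      omega) hf t
  rw [h3 g (mem_normalizer_of_cj_le h5) t ht] at h6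
  exact htM h6

end Cfsg.Agent.S2872
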