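import Cfsg.Statements.S2873
import Cfsg.Agent.OD.Pre
import Cfsg.Agent.H9.Iso2

set_option autoImplicit false
open Cfsg

namespace Cfsg.Agent.S2873
open Subgroup CfH9 CfH7
open scoped commutatorElement

theorem exists_conj_eq_mul {G : Type*} [Group G] [Finite G] {Q : Subgroup G} {x : G}
    (hx : x ∈ Nm(Q)) (h : Q ⊓ Cx(x) = ⊥) {q : G} (hq : q ∈ Q) :
    ∃ u ∈ Q, u * x * u⁻¹ = q * x := by
  let f : Q → Q := fun u =>
    ⟨u * (x * (u : G)⁻¹ * x⁻¹), Q.mul_mem u.2 (conj_mem_of_mem_normalizer hx (Q.inv_mem u.2))⟩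
  have hf : Function.Injective f := by
    intro a b hab
    have e : (a : G) * (x * (a : G)⁻¹ * x⁻¹) = b * (x * (b : G)⁻¹ * x⁻¹) :=
      congrArg Subtype.val hab
    have : (b : G)⁻¹ * a ∈ Q ⊓ Cx(x) := by
      refine mi (Q.mul_mem (Q.inv_mem b.2) a.2) (mem_Cx.2 ?_)
      calc (b : G)⁻¹ * a * x = (b : G)⁻¹ * (a * (x * (a : G)⁻¹ * x⁻¹)) * x * a := by group
        _ = _ := by rw [e]; group
    rw [h, mem_bot, inv_mul_eq_one] at this
    exact Subtype.ext this.symm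
  obtain ⟨u, hu⟩ := (Finite.injective_iff_surjective.1 hf) ⟨q, hq⟩
  have e : (u : G) * (x * (u : G)⁻¹ * x⁻¹) = q := congrArg Subtype.val hu
  exact ⟨u, u.2, by rw [← e]; group⟩

theorem dih_inv {r : ℕ} (hr : Odd r) {u : DihedralGroup r} (hu : orderOf u = 2) :
    ∃ i, u = .sr i := by
  rcases u with i | i
  · exfalso
    have : NeZero r := ⟨by rintro rfl; simp at hr⟩
    have h1 : orderOf (DihedralGroup.r i) ∣ r := by
      rw [DihedralGroup.orderOf_r]; exact Nat.div_dvd_of_dvd (Nat.gcd_dvd_left _ _)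
    rw [hu] at h1
    exact (Nat.not_even_iff_odd.2 hr) (even_iff_two_dvd.2 h1)
  · exact ⟨i, rfl⟩

theorem dih_conj {r : ℕ} (hr : Odd r) (i j : ZMod r) :
    ∃ g : DihedralGroup r, g * .sr i * g⁻¹ = .sr j := by
  obtain ⟨k, hk⟩ := hr
  have h2 : (2 : ZMod r) * (k + 1) = 1 := by
    have : ((r : ℕ) : ZMod r) = 0 := ZMod.natCast_self r
    rw [hk] at this
    push_cast at this
    subst hk
    linear_combination this
  refine ⟨.r ((i - j) * (k + 1)), ?_⟩
  rw [DihedralGroup.inv_r, DihedralGroup.r_mul_sr, DihedralGroup.sr_mul_r]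
  congr 1
  linear_combination (j - i) * h2

/-- Let G be a finite group and r an odd prime such that G ⧸ O₂(G) is dihedral of order 2r, and let R be a Sylow r-subgroup of G with C_{O₂(G)}(R) = 1. Then N_G(R) is dihedral of order 2r; for any involution a of N_G(R), every involution of G outside O₂(G) is conjugate to a; and |C_{O₂(G)}(a)|² = |O₂(G)|. -/
theorem result {G : Type*} [Group G] [Finite G] {r : ℕ} [Fact r.Prime] (hr : r ≠ 2) [hN : (Cfsg.pCore 2 G).Normal] (hquot : Nonempty (G ⧸ Cfsg.pCore 2 G ≃* DihedralGroup r)) (R : Sylow r G) (hC : Cfsg.pCore 2 G ⊓ Subgroup.centralizer ((R : Subgroup G) : Set G) = ⊥) : Nonempty (↥(Subgroup.normalizer ((R : Subgroup G) : Set G)) ≃* DihedralGroup r) ∧ ∀ a : G, a ∈ Subgroup.normalizer ((R : Subgroup G) : Set G) → orderOf a = 2 → (∀ b : G, orderOf b = 2 → b ∉ Cfsg.pCore 2 G → ∃ g : G, g * a * g⁻¹ = b) ∧ Nat.card ↥(Cfsg.pCore 2 G ⊓ Subgroup.centralizer ({a} : Set G))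 ^ 2 = Nat.card ↥(Cfsg.pCore 2 G) := by
  obtain ⟨e⟩ := hquot
  have hp := (Fact.out : r.Prime)
  have hodd : Odd r := hp.odd_of_ne_two hr
  have : NeZero r := ⟨hp.ne_zero⟩
  set Q := pCore 2 G with hQ
  let π : G →* DihedralGroup r := e.toMonoidHom.comp (QuotientGroup.mk' Q)
  have hπ : ∀ g, π g = 1 ↔ g ∈ Q := fun g => by
    rw [← QuotientGroup.eq_one_iff, ← e.map_eq_one_iff]; rfl
  have hsurj : Function.Surjective π := e.surjective.comp (QuotientGroup.mk'_surjective Q)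
  have hQR : Q ⊓ (R : Subgroup G) = ⊥ := inf_eq_bot_of_isPGroup_of_coprime (isPGroup_pCore 2 G)
    (coprime_card_of_isPGroup_of_ne hr R.isPGroup')
  have hNQ : ∀ g ∈ Nm((R : Subgroup G)), g ∈ Q → g = 1 := fun g hg hgQ => by
    rw [← mem_bot, ← hC]
    exact mi hgQ fun y hy => (commute_of_disjoint hgQ hy hg (mem_Nm_of_normal _ _) hQR).symm
  have hinj : ∀ a ∈ Nm((R : Subgroup G)), ∀ b ∈ Nm((R : Subgroup G)), π a = π b → a = b :=
    fun a ha b hb h => mul_inv_eq_one.1 (hNQ _ (mul_mem ha (inv_mem hb))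
      ((hπ _).1 (by rw [map_mul, map_inv, h, mul_inv_cancel])))
  have hRπ : (R : Subgroup G).map π = zpowers (DihedralGroup.r 1) := by
    have h1 := (sylIn_top R).map_surj hsurj
    have h2 : IsPGroup r (zpowers (DihedralGroup.r 1 : DihedralGroup r)) :=
      isPGroup_zpowers_of_orderOf_prime DihedralGroup.orderOf_r_one
    have h3 : (zpowers (DihedralGroup.r 1 : DihedralGroup r)).index = 2 := by
      have := (zpowers (DihedralGroup.r 1 : DihedralGroup r)).card_mul_index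
      rw [Nat.card_zpowers, DihedralGroup.orderOf_r_one, DihedralGroup.nat_card, mul_comm 2] at this
      exact Nat.eq_of_mul_eq_mul_left hp.pos this
    haveI := normal_of_index_eq_two h3
    have h4 : SylIn r (zpowers (DihedralGroup.r 1 : DihedralGroup r)) ⊤ :=
      sylIn_top_iff.2 ⟨h2, by rw [h3]; exact fun h => hr ((Nat.prime_dvd_prime_iff_eq hp Nat.prime_two).1 h)⟩
    obtain ⟨g, -, hg⟩ := h4.conj h1
    rw [← hg, cj_normal]
  have hsurjN : ∀ d, ∃ n ∈ Nm((R : Subgroup G)), π n = d := by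
    intro d
    obtain ⟨g, rfl⟩ := hsurj d
    have h1 : SylIn r (R : Subgroup G) ((zpowers (DihedralGroup.r 1)).comap π) :=
      (sylIn_top R).mono (hRπ ▸ le_comap_map _ _) le_top
    have h2 : (zpowers (DihedralGroup.r 1 : DihedralGroup r)).Normal := by
      refine normal_of_cj fun g => ?_
      rw [cj_zpowers, zpowers_le]
      rcases g with i | i
      · simp
      · rw [DihedralGroup.inv_sr, DihedralGroup.sr_mul_r, DihedralGroup.sr_mul_sr]
        simpa using inv_mem (mem_zpowers (DihedralGroup.r 1 : DihedralGroup r))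
    obtain ⟨n, hn, x, hx, rfl⟩ := h1.frattini (mem_Nm_of_normal g _)
    rw [mem_comap, ← hRπ] at hn
    obtain ⟨y, hy, hyn⟩ := hn
    exact ⟨y * x, mul_mem (le_normalizer hy) hx, by rw [map_mul, map_mul, hyn]⟩
  refine ⟨⟨MulEquiv.ofBijective (π.comp (Nm((R : Subgroup G))).subtype) ⟨fun a b h =>
    Subtype.ext (hinj _ a.2 _ b.2 h), fun d => ?_⟩⟩, fun a ha ho => ?_⟩
  · obtain ⟨n, hn, e⟩ := hsurjN d
    exact ⟨⟨n, hn⟩, e⟩
  have hinv : ∀ b : G, orderOf b = 2 → b ∉ Q → ∃ i, π b = .sr i := fun b hb hbQ =>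
    dih_inv hodd (orderOf_eq_prime (by rw [← map_pow, pow_eq_one_of_orderOf hb, map_one])
      fun e => hbQ ((hπ b).1 e))
  obtain ⟨i, hi⟩ := hinv a ho fun e => ne_one_of_orderOf_eq_prime ho (hNQ a ha e)
  obtain ⟨x, hxR, hx⟩ : DihedralGroup.r 1 ∈ (R : Subgroup G).map π := hRπ ▸ mem_zpowers _
  have hxz : zpowers x = R := by
    refine le_antisymm ((zpowers_le).2 hxR) fun y hy => ?_
    obtain ⟨k, hk⟩ : π y ∈ zpowers (DihedralGroup.r 1) := hRπ ▸ mem_map_of_mem π hy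
    refine ⟨k, hinj _ (le_normalizer (zpow_mem hxR k)) _ (le_normalizer hy) ?_⟩
    simp only at hk ⊢
    rw [map_zpow, hx, hk]
  have haa : a * a = 1 := by rw [← pow_two]; exact pow_eq_one_of_orderOf ho
  have ha' : a * x ∈ Nm((R : Subgroup G)) := mul_mem ha (le_normalizer hxR)
  have hax : a * x * (a * x) = 1 := hinj _ (mul_mem ha' ha') _ (one_mem _) (by
    simp [hi, hx])
  have hCx : Q ⊓ Cx(x) = ⊥ := by rw [← Cz_zpowers, hxz, hC]
  have key : ∀ b : G, b * b = 1 → π b = π a →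
      ∃ u ∈ Q, u⁻¹ * b * u = a ∧ u⁻¹ * (a * x) * u = a * x := by
    intro b hb hba
    obtain ⟨u, hu, e⟩ := exists_conj_eq_mul (mem_Nm_of_normal x Q) hCx (q := b * a)
      ((hπ _).1 (by rw [map_mul, hba, ← map_mul, haa, map_one]))
    have h1 : ∀ c : G, c * (b * a * x) * c⁻¹ = (b * a * x)⁻¹ → u⁻¹ * c * u ∈ Nm((R : Subgroup G)) := by
      intro c hc
      rw [← hxz]
      refine mem_normalizer_of_cj_le ?_
      rw [cj_zpowers, zpowers_le]
      have : u⁻¹ * c * u * x * (u⁻¹ * c * u)⁻¹ = x⁻¹ := by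
        calc _ = u⁻¹ * (c * (u * x * u⁻¹) * c⁻¹) * u := by group
          _ = _ := by rw [e, hc, ← e]; group
      rw [this]
      exact inv_mem (mem_zpowers x)
    have hb' : b⁻¹ = b := inv_eq_of_mul_eq_one_right hb
    have hax' : (a * x)⁻¹ = a * x := inv_eq_of_mul_eq_one_right hax
    have h2 : ∀ c, π (u⁻¹ * c * u) = π c := fun c => by
      rw [map_mul, map_mul, map_inv, (hπ u).2 hu]; simp
    refine ⟨u, hu, hinj _ (h1 b ?_) _ ha ((h2 b).trans hba), hinj _ (h1 _ ?_) _ ha' (h2 _)⟩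
    · rw [mul_assoc b a, mul_inv_rev, hax', ← mul_assoc, hb, one_mul]
    · rw [mul_assoc b a, mul_inv_rev b, hb', ← mul_assoc, mul_inv_cancel_right, hax']
  refine ⟨fun b hb hbQ => ?_, ?_⟩
  · obtain ⟨j, hj⟩ := hinv b hb hbQ
    obtain ⟨d, hd⟩ := dih_conj hodd j i
    obtain ⟨g, rfl⟩ := hsurj d
    obtain ⟨u, -, hu, -⟩ := key (g * b * g⁻¹) (by
      rw [← pow_two, conj_pow, pow_eq_one_of_orderOf hb]; simp) (by
      rw [map_mul, map_mul, map_inv, hj, hd, hi])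
    exact ⟨g⁻¹ * u, by rw [← hu]; group⟩
  have h1 : Nat.card (Q ⊓ Cx(a * x) : Subgroup G) = Nat.card (Q ⊓ Cx(a) : Subgroup G) := by
    obtain ⟨d, hd⟩ := dih_conj hodd i (i + 1)
    obtain ⟨n, hn, rfl⟩ := hsurjN d
    have : n * a * n⁻¹ = a * x := hinj _ (mul_mem (mul_mem hn ha) (inv_mem hn)) _ ha' (by
      rw [map_mul, map_mul, map_inv, hi, hd, map_mul, hi, hx, DihedralGroup.sr_mul_r])
    rw [← this, ← cj_Cx, ← card_cj n (Q ⊓ Cx(a)), cj_inf, cj_normal n Q]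
  rw [pow_two]
  refine le_antisymm ?_ ?_
  · have h2 := card_mul_card_le (inf_le_left : Q ⊓ Cx(a) ≤ Q) (inf_le_left : Q ⊓ Cx(a * x) ≤ Q)
    have h3 : Q ⊓ Cx(a) ⊓ (Q ⊓ Cx(a * x)) = ⊥ := by
      rw [eq_bot_iff, ← hCx]
      intro g hg
      refine mi (mi1 (mi1 hg)) ?_
      have e1 : a⁻¹ ∈ Cx(g) := inv_mem (mem_Cx.2 (mem_Cx.1 (mi2 (mi1 hg))).symm)
      have e2 : a * x ∈ Cx(g) := mem_Cx.2 (mem_Cx.1 (mi2 (mi2 hg))).symm
      have e3 := mul_mem e1 e2
      rw [inv_mul_cancel_left] at e3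
      exact mem_Cx.2 (mem_Cx.1 e3).symm
    rwa [h3, card_bot, mul_one, h1] at h2
  · nth_rw 1 [← h1]
    rw [← Nat.card_prod]
    refine Nat.card_le_card_of_surjective
      (fun q : (Q ⊓ Cx(a * x) : Subgroup G) × (Q ⊓ Cx(a) : Subgroup G) =>
        (⟨q.1 * q.2, Q.mul_mem (mi1 q.1.2) (mi1 q.2.2)⟩ : Q)) fun q => ?_
    obtain ⟨u, hu, h2, h3⟩ := key (q * a * (q : G)⁻¹) (by
      rw [← pow_two, conj_pow, pow_two, haa]; simp) (by
      rw [map_mul, map_mul, map_inv, (hπ q).2 q.2]; simp)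
    refine ⟨(⟨u, mi hu (mem_Cx'.2 ?_)⟩, ⟨u⁻¹ * q, mi (Q.mul_mem (Q.inv_mem hu) q.2)
      (mem_Cx'.2 ?_)⟩), Subtype.ext (by simp)⟩
    · conv_lhs => rw [← h3]
      group
    · conv_rhs => rw [← h2]
      group

end Cfsg.Agent.S2873
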