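import Cfsg.Statements.S2874
import Cfsg.Agent.OD.Pre
import Cfsg.Agent.H9.Basic

set_option autoImplicit false
open Cfsg

namespace Cfsg.Agent.S2874

open Matrix CfH9

variable {k : ℕ}

theorem unit_of_cast (hk : 2 ∣ 2 ^ k) {x : ZMod (2 ^ k)} (h : ZMod.castHom hk (ZMod 2) x = 1) :
    IsUnit x := by
  obtain ⟨n, rfl⟩ := ZMod.natCast_zmod_surjective x
  rw [map_natCast, ZMod.natCast_eq_one_iff_odd] at h
  exact (ZMod.isUnit_iff_coprime _ _).2 (h.coprime_two_right.pow_right k)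

theorem mod_two : ∀ m : Matrix (Fin 2) (Fin 2) (ZMod 2), m ^ 3 = 1 →
    (m ^ 2 + m + 1).det = 1 ∨ ((m - 1).det = 1 ∧ m 1 0 = 1) := by
  decide +kernel

theorem ord3 (hk : 2 ∣ 2 ^ k) {m : Matrix (Fin 2) (Fin 2) (ZMod (2 ^ k))} (h : m ^ 3 = 1)
    (h1 : m ≠ 1) : IsUnit (m 1 0) ∧ m 0 0 + m 1 1 = -1 ∧ m 0 0 * m 1 1 - m 0 1 * m 1 0 = 1 := by
  let φ := ZMod.castHom hk (ZMod 2)
  have h2 : (m - 1) * (m ^ 2 + m + 1) = 0 := by
    rw [← sub_eq_zero.2 h]; noncomm_ring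
  rcases mod_two (φ.mapMatrix m) (by rw [← map_pow, h, map_one]) with h3 | ⟨h3, h4⟩
  · rw [← map_pow, ← map_add, ← φ.mapMatrix.map_one, ← map_add, ← RingHom.map_det] at h3
    exact absurd (sub_eq_zero.1
      (((isUnit_iff_isUnit_det _).2 (unit_of_cast hk h3)).mul_left_eq_zero.1 h2)) h1
  · rw [← φ.mapMatrix.map_one, ← map_sub, ← RingHom.map_det] at h3
    have h5 := ((isUnit_iff_isUnit_det _).2 (unit_of_cast hk h3)).mul_right_eq_zero.1 h2
    have h6 := unit_of_cast hk (x := m 1 0) h4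
    have h7 := congrFun (congrFun h5 1) 0
    have h8 := congrFun (congrFun h5 0) 0
    simp [sq, Matrix.mul_apply, Fin.sum_univ_two] at h7 h8
    have h9 : m 0 0 + m 1 1 = -1 := h6.mul_left_cancel (by linear_combination h7)
    exact ⟨h6, h9, by linear_combination m 0 0 * h9 - h8⟩

/-- the standard element of order three -/
def r0 (k : ℕ) : Matrix (Fin 2) (Fin 2) (ZMod (2 ^ k)) := !![0, -1; 1, -1]

/-- the elements killed by two -/
def eps (k : ℕ) (b : Bool) : ZMod (2 ^ k) := if b then ((2 ^ k / 2 : ℕ) : ZMod (2 ^ k)) else 0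

/-- the standard alternating group -/
def tau (k : ℕ) (x : Bool × Bool × Fin 3) : Matrix (Fin 2) (Fin 2) (ZMod (2 ^ k)) :=
  !![1 + eps k x.2.1 - eps k x.1, eps k x.1; eps k x.2.1, 1 + eps k x.1 - eps k x.2.1] *
    r0 k ^ (x.2.2 : ℕ)

theorem exists_eps {x : ZMod (2 ^ k)} (h : 2 * x = 0) : ∃ b, x = eps k b := by
  rcases (ZMod.neg_eq_self_iff x).1 (by linear_combination -h) with h | h
  · exact ⟨false, h⟩
  · exact ⟨true, by rw [eps, if_pos rfl, show 2 ^ k / 2 = x.val by omega, ZMod.natCast_zmod_val]⟩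

theorem alt4 : ∃ c : alternatingGroup (Fin 4), c ^ 3 = 1 ∧ c ≠ 1 ∧ ∀ h, ∃ a, ∃ i : Fin 3,
    h = a * c ^ (i : ℕ) ∧ a ^ 2 = 1 ∧ (a * c) ^ 3 = 1 ∧ a * c ≠ 1 ∧ (a * c ^ 2) ^ 3 = 1 ∧
      a * c ^ 2 ≠ 1 := by
  decide +kernel

theorem key (hk : 2 ∣ 2 ^ k) (H : Subgroup (GL (Fin 2) (ZMod (2 ^ k))))
    (e : H ≃* alternatingGroup (Fin 4)) :
    ∃ g, (∀ h ∈ cj g H, ∃ x, h.1 = tau k x) ∧ ∀ x, ∃ h ∈ cj g H, h.1 = tau k x := by
  obtain ⟨c, hc, hc1, hA⟩ := alt4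
  let f : alternatingGroup (Fin 4) →* Matrix (Fin 2) (Fin 2) (ZMod (2 ^ k)) :=
    (Units.coeHom _).comp (H.subtype.comp e.symm.toMonoidHom)
  have hf : Function.Injective f :=
    Units.val_injective.comp (H.subtype_injective.comp e.symm.injective)
  obtain ⟨h1, h2, h3⟩ := ord3 hk (m := f c) (by rw [← map_pow, hc, map_one])
    (by rwa [Ne, map_eq_one_iff f hf])
  obtain ⟨g, hg⟩ : IsUnit !![1, f c 0 0; 0, f c 1 0] := by
    rw [isUnit_iff_isUnit_det]; simpa [det_fin_two] using h1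
  let f' : alternatingGroup (Fin 4) →* Matrix (Fin 2) (Fin 2) (ZMod (2 ^ k)) :=
    (Units.coeHom _).comp ((MulAut.conj g⁻¹).toMonoidHom.comp (H.subtype.comp e.symm.toMonoidHom))
  have hf' : Function.Injective f' := Units.val_injective.comp
    ((MulAut.conj g⁻¹).injective.comp (H.subtype_injective.comp e.symm.injective))
  have h4 : f' c = r0 k := by
    change g⁻¹.1 * f c * g⁻¹⁻¹.1 = _
    rw [inv_inv, Matrix.mul_assoc, Units.inv_mul_eq_iff_eq_mul, hg]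
    ext i j
    fin_cases i <;> fin_cases j <;> simp [r0, Matrix.mul_apply, Fin.sum_univ_two]
    · linear_combination f c 0 0 * h2 - h3
    · linear_combination f c 1 0 * h2
  have h5 : ∀ h ∈ cj g⁻¹ H, ∃ x, h.1 = tau k x := by
    rintro _ ⟨h, hh, rfl⟩
    obtain ⟨a, i, e1, e2, e3, e4, e5, e6⟩ := hA (e ⟨h, hh⟩)
    have h6 : ((MulAut.conj g⁻¹).toMonoidHom h).1 = f' (e ⟨h, hh⟩) := by simp [f']
    obtain ⟨-, h7, h8⟩ := ord3 hk (m := f' (a * c)) (by rw [← map_pow, e3, map_one])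
      (by rwa [Ne, map_eq_one_iff f' hf'])
    obtain ⟨-, h9, -⟩ := ord3 hk (m := f' (a * c ^ 2)) (by rw [← map_pow, e5, map_one])
      (by rwa [Ne, map_eq_one_iff f' hf'])
    have h10 : f' a * f' a = 1 := by rw [← map_mul, ← sq, e2, map_one]
    rw [h6, e1, map_mul, map_pow, h4]
    rw [map_mul, h4] at h7 h8
    rw [map_mul, map_pow, h4] at h9
    generalize f' a = m at *
    have h11 := congrFun (congrFun h10 0) 1
    have h12 := congrFun (congrFun h10 1) 0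
    simp [r0, sq, Matrix.mul_apply, Fin.sum_univ_two] at h7 h8 h9 h11 h12
    obtain ⟨b, hb⟩ := exists_eps (x := m 0 1) (by linear_combination h11 + m 0 1 * (h7 + h9))
    obtain ⟨b', hb'⟩ := exists_eps (x := m 1 0) (by linear_combination h12 + m 1 0 * (h7 + h9))
    refine ⟨(b, b', i), ?_⟩
    rw [tau, ← hb, ← hb']
    congr 1
    ext i j
    fin_cases i <;> fin_cases j <;> simp
    · linear_combination -h9
    · linear_combination -h7
  refine ⟨g⁻¹, h5, fun x => ?_⟩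
  choose u hu using fun h : cj g⁻¹ H => h5 h h.2
  have h6 : Function.Bijective u := (Nat.bijective_iff_injective_and_card u).2
    ⟨fun a b h => Subtype.ext (Units.ext (by rw [hu, hu, h])), by
      rw [card_cj, Nat.card_congr e.toEquiv, alternatingGroup.card_of_card_eq_four (by simp)]
      simp⟩
  obtain ⟨h, rfl⟩ := h6.2 x
  exact ⟨h, h.2, hu h⟩

/-- For k ≥ 2, any two subgroups of GL₂(ℤ/2ᵏℤ) (the automorphism group of the homocyclic group ℤ/2ᵏ × ℤ/2ᵏ) that are isomorphic to the alternating group of degree 4 are conjugate. -/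
theorem result (k : ℕ) (hk : 2 ≤ k) (H₁ H₂ : Subgroup (GL (Fin 2) (ZMod (2 ^ k)))) (h₁ : Nonempty (↥H₁ ≃* ↥(alternatingGroup (Fin 4)))) (h₂ : Nonempty (↥H₂ ≃* ↥(alternatingGroup (Fin 4)))) : ∃ g : GL (Fin 2) (ZMod (2 ^ k)), H₂ = H₁.map (MulAut.conj g).toMonoidHom := by
  have h2 : 2 ∣ 2 ^ k := dvd_pow_self 2 (by omega)
  obtain ⟨g₁, a₁, b₁⟩ := key h2 H₁ h₁.some
  obtain ⟨g₂, a₂, b₂⟩ := key h2 H₂ h₂.some
  have : cj g₂ H₂ = cj g₁ H₁ := le_antisymm
    (fun h hh => (a₂ h hh).elim fun x e => (b₁ x).elim fun _ e' => Units.ext (e'.2.trans e.symm) ▸ e'.1)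
    (fun h hh => (a₁ h hh).elim fun x e => (b₂ x).elim fun _ e' => Units.ext (e'.2.trans e.symm) ▸ e'.1)
  exact ⟨g₂⁻¹ * g₁, by rw [← cj_def, cj_mul, ← cj_eq_iff, this]⟩

end Cfsg.Agent.S2874
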