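import Cfsg.Statements.S2881
import Cfsg.Agent.OD.Pre
import Cfsg.Agent.H4.Extra2

set_option autoImplicit false
open Cfsg

open CfH4

namespace Cfsg.Agent.S2881

/-- Let E be an extraspecial 2-group of order 2^(2m+1) of plus type (containing an elementary abelian subgroup of order 2^(m+1)), and let ω be an automorphism of E of order 5 whose fixed points are exactly the centre of E. Then m is divisible by 4. -/
theorem result {E : Type*} [Group E] [Finite E] (m : ℕ) (hm : 1 ≤ m) (hE : Cfsg.IsExtraspecial 2 E) (hcard : Nat.card E = 2 ^ (2 * m + 1)) (hplus : ∃ A : Subgroup E, Cfsg.IsElementaryAbelian 2 A ∧ Nat.card A = 2 ^ (m + 1)) (ω : E ≃* E) (hω : orderOf ω = 5) (hfix : ∀ x : E, ω x = x ↔ x ∈ Subgroup.center E) : 4 ∣ m := by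
  obtain ⟨z, h⟩ := exists_es2 hE
  obtain ⟨A, hA, hAc⟩ := hplus
  have h1 := h.card_order_four hcard hA hAc
  have := Fact.mk Nat.prime_five
  let P : Subgroup (MulAut E) := Subgroup.zpowers (ω : MulAut E)
  have hP : IsPGroup 5 P := IsPGroup.of_card (n := 1) (by rw [Nat.card_zpowers]; exact hω)
  let S : SubMulAction P E :=
    { carrier := {x | orderOf x = 4}
      smul_mem' := fun f x hx => (MulEquiv.orderOf_eq f.1 x).trans hx }
  have h2 : 5 ∣ Nat.card S := by
    by_contra hc
    obtain ⟨⟨x, hx⟩, hfx⟩ := hP.nonempty_fixed_point_of_prime_not_dvd_card S hc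
    have h3 : ω x = x := congrArg Subtype.val (hfx ⟨ω, Subgroup.mem_zpowers _⟩)
    have h4 := h.orderOf_eq_four_iff.1 hx
    rcases h.mem_center_iff.1 ((hfix x).1 h3) with h5 | h5
    · exact h4 (by rw [h5, one_mul])
    · exact h4 (by rw [h5, h.sq])
  have h3 : Nat.card S = 2 ^ m * (2 ^ m - 1) := by
    rw [Nat.mul_sub_one, ← pow_add, ← two_mul]; exact h1
  rw [h3] at h2
  have h4 : 5 ∣ 2 ^ m - 1 := (Nat.Coprime.pow_right m (by decide)).dvd_of_dvd_mul_left h2
  have h5 : 2 ^ m % 5 = 1 := by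
    have := Nat.one_le_two_pow (n := m)
    omega
  rw [← Nat.div_add_mod m 4, pow_add, pow_mul, Nat.mul_mod, Nat.pow_mod] at h5
  have h6 : m % 4 < 4 := Nat.mod_lt _ (by decide)
  apply Nat.dvd_of_mod_eq_zero
  generalize m % 4 = r at h5 h6
  interval_cases r <;> simp at h5 ⊢

end Cfsg.Agent.S2881
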