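import Cfsg.Statements.S2882
import Cfsg.Agent.H2.M24S
import Cfsg.Agent.H9.SylIn

set_option autoImplicit false
open Cfsg

namespace Cfsg.Agent.S2882

open Subgroup CfH9 CfH2.M24S

/-- In the Mathieu group of degree 24 (realised as the automorphism group of the extended binary Golay code) every Sylow 2-subgroup is self-normalizing. -/
theorem result (S : Sylow 2 ↥Cfsg.M24) : Subgroup.normalizer ((S : Subgroup ↥Cfsg.M24) : Set ↥Cfsg.M24) = (S : Subgroup ↥Cfsg.M24) := by
  classical
  have hP : IsPGroup 2 (tree.subgroupOf M24) :=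
    tree_pgrp.comap_subtype
  obtain ⟨T, hT⟩ := hP.exists_le_sylow
  have key : normalizer ((T : Subgroup M24) : Set M24) = (T : Subgroup M24) := by
    refine le_antisymm (relIndex_eq_one.1 ?_) le_normalizer
    by_contra e
    obtain ⟨p, hp, h1⟩ := Nat.exists_prime_and_dvd e
    have : Fact p.Prime := ⟨hp⟩
    have p2 : p ≠ 2 := fun e => ((sylIn_top T).mono le_normalizer le_top).not_dvd_relIndex (e ▸ h1)
    obtain ⟨g, hg, o⟩ := exists_orderOf_eq_prime (h1.trans (relIndex_dvd_card _ _))
    have := eq_one (S := (T : Subgroup M24).map M24.subtype) (T.2.map _)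
      (fun x hx => ⟨⟨x, hx.1⟩, hT hx.2, rfl⟩) g.2 (le_normalizer_map _ ⟨g, hg, rfl⟩) hp p2
      (by rw [Subgroup.orderOf_coe, o])
    exact hp.ne_one (by rw [← o, show g = 1 from Subtype.ext this, orderOf_one])
  obtain ⟨g, rfl⟩ := MulAction.exists_smul_eq M24 T S
  rw [Sylow.coe_subgroup_smul]
  exact (cj_normalizer g (T : Subgroup M24)).symm.trans (congrArg (cj g) key)

end Cfsg.Agent.S2882
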