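import Cfsg.Statements.S2933
import Cfsg.Agent.OD.Pre
import Cfsg.Agent.H2.Fpf3
import Cfsg.Agent.H2.Sp64

set_option autoImplicit false
open Cfsg

namespace Cfsg.Agent.S2933

open Subgroup CfH2 CfH2.Fpf3 CfH2.Sp64
open scoped commutatorElement

theorem four_elems {G : Type*} [Group G] [Finite G] {V : Subgroup G} (hV : Nat.card V ≤ 4)
    {b c d : G} (hb : b ∈ V) (hc : c ∈ V) (hd : d ∈ V) (h1 : 1 ≠ b) (h2 : 1 ≠ c) (h3 : 1 ≠ d)
    (h4 : b ≠ c) (h5 : b ≠ d) (h6 : c ≠ d) :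
    Nat.card V = 4 ∧ ∀ w ∈ V, w = 1 ∨ w = b ∨ w = c ∨ w = d := by
  have hs : ({1, b, c, d} : Set G) ⊆ V := by
    rintro z (rfl | rfl | rfl | rfl) <;> simp [*]
  have hc : ({1, b, c, d} : Set G).ncard = 4 := by
    rw [Set.ncard_insert_of_notMem (by simp [*]), Set.ncard_insert_of_notMem (by simp [*]),
      Set.ncard_pair h6]
  have he := Set.eq_of_subset_of_ncard_le hs (by rw [hc]; exact hV)
  refine ⟨by rw [← hc, he]; rfl, fun w hw => ?_⟩
  have : w ∈ ({1, b, c, d} : Set G) := he ▸ hw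
  simpa using this

theorem four_sigma {T : Type*} [Group T] [Finite T] {σ : T →* T} (h : IsF σ) {V : Subgroup T}
    (hV : Nat.card V ≤ 4) (hσ : ∀ v ∈ V, σ v ∈ V) {v : T} (hv : v ∈ V) (h1 : v ≠ 1) :
    Nat.card V = 4 ∧ ∀ w ∈ V, w = 1 ∨ w = v ∨ w = σ v ∨ w = σ (σ v) := by
  have inj : ∀ a b, σ a = σ b → a = b := fun a b e => by rw [← h.cube a, e, h.cube]
  have k1 : v ≠ σ v := fun e => h1 (h.fpf v e.symm)
  refine four_elems hV hv (hσ _ hv) (hσ _ (hσ _ hv)) h1.symm
    (fun e => h1 (inj _ _ (by rw [← e, map_one])))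
    (fun e => h1 (inj _ _ (inj _ _ (by rw [← e, map_one, map_one])))) k1
    (fun e => k1 (inj _ _ (inj _ _ (by rw [h.cube]; exact e.symm)))) (fun e => k1 (inj _ _ e))

theorem sq_of_four {T : Type*} [Group T] [Finite T] {σ : T →* T} (h : IsF σ) {V : Subgroup T}
    (hV : Nat.card V ≤ 4) (hσ : ∀ v ∈ V, σ v ∈ V) {v : T} (hv : v ∈ V) : v * v = 1 := by
  by_cases h1 : v = 1
  · simp [h1]
  have inj : ∀ a, σ a = 1 → a = 1 := fun a e => by rw [← h.cube a, e, map_one, map_one]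
  have hn := h.norm v
  rcases (four_sigma h hV hσ hv h1).2 _ (V.inv_mem hv) with e | e | e | e
  · exact absurd (inv_eq_one.1 e) h1
  · exact mul_eq_one_iff_eq_inv.2 e.symm
  · rw [eq_comm] at e
    rw [show v * σ v = 1 by rw [e, mul_inv_cancel], one_mul] at hn
    exact absurd (inj _ (inj _ hn)) h1
  · rw [← e, (h.comm_sigma v).eq, mul_inv_cancel_right] at hn
    exact absurd (inj _ hn) h1

theorem card_pow_ker {A : Type*} [CommGroup A] [Finite A]
    (h : Nat.card (powMonoidHom 2 : A →* A).ker ≤ 4) (k : ℕ) :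
    Nat.card (powMonoidHom (2 ^ k) : A →* A).ker ≤ 4 ^ k := by
  induction k with
  | zero =>
    have : (powMonoidHom (2 ^ 0) : A →* A).ker = ⊥ := by ext x; simp
    simp [this]
  | succ k ih =>
    let f : (powMonoidHom (2 ^ (k + 1)) : A →* A).ker →* A := (powMonoidHom 2).comp (Subgroup.subtype _)
    have h1 := f.ker.card_mul_index
    rw [index_ker] at h1
    have h2 : Nat.card f.range ≤ 4 ^ k := by
      refine le_trans (card_le_of_le ?_) ih
      rintro _ ⟨⟨x, hx⟩, rfl⟩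
      simp only [MonoidHom.mem_ker, powMonoidHom_apply] at hx ⊢
      change (x ^ 2) ^ 2 ^ k = 1
      rw [← pow_mul, ← pow_succ', hx]
    have h3 : Nat.card f.ker ≤ 4 := by
      refine le_trans (Nat.card_le_card_of_injective
        (fun x : f.ker => (⟨x.1.1, x.2⟩ : (powMonoidHom 2 : A →* A).ker)) ?_) h
      intro x y e
      exact Subtype.ext (Subtype.ext (congrArg (fun z : (powMonoidHom 2 : A →* A).ker => z.1) e))
    rw [← h1, pow_succ' 4]
    exact Nat.mul_le_mul h3 h2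

theorem homocyclic {A : Type*} [CommGroup A] [Finite A] (hA : IsPGroup 2 A) {σ : A →* A}
    (h : IsF σ) (h4 : Nat.card (powMonoidHom 2 : A →* A).ker ≤ 4) :
    ∃ x : A, ∃ n : ℕ, closure {x, σ x} = ⊤ ∧
      Nonempty (A ≃* Multiplicative (ZMod (2 ^ n)) × Multiplicative (ZMod (2 ^ n))) := by
  obtain ⟨x, hx⟩ := Monoid.exists_orderOf_eq_exponent (G := A) (Monoid.ExponentExists.of_finite)
  obtain ⟨n, hn⟩ := (IsPGroup.iff_orderOf.1 hA) x
  have inj : Function.Injective σ := fun a b e => by rw [← h.cube a, e, h.cube]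
  have hn' : orderOf (σ x) = 2 ^ n := by rw [orderOf_injective σ inj, hn]
  have hc : Nat.card A ≤ 4 ^ n := by
    have : (powMonoidHom (2 ^ n) : A →* A).ker = ⊤ := by
      ext a; simp [← hn, hx, Monoid.pow_exponent_eq_one]
    have h5 := card_pow_ker h4 n
    rwa [this, card_top] at h5
  have hd : Disjoint (zpowers x) (zpowers (σ x)) := by
    rw [disjoint_iff, eq_bot_iff]
    by_contra hne
    have hne' : zpowers x ⊓ zpowers (σ x) ≠ ⊥ := fun e => hne e.le
    obtain ⟨k, hk⟩ := (hA.to_subgroup (zpowers x ⊓ zpowers (σ x))).exists_card_eq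
    have hk0 : k ≠ 0 := by
      rintro rfl
      exact hne' (card_eq_one.1 hk)
    obtain ⟨⟨e, he0⟩, he⟩ := exists_prime_orderOf_dvd_card' (G := ↥(zpowers x ⊓ zpowers (σ x))) 2
      (hk ▸ dvd_pow_self 2 hk0)
    rw [orderOf_mk] at he
    obtain ⟨he1, he2⟩ := mem_inf.1 he0
    obtain ⟨i, hi⟩ := mem_zpowers_iff.1 he2
    have he3 : orderOf (x ^ i) = 2 := by rw [← orderOf_injective σ inj, map_zpow, hi, he]
    have he4 : (⟨e, he1⟩ : zpowers x) = ⟨x ^ i, zpow_mem_zpowers _ _⟩ := by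
      classical
      let _ := Fintype.ofFinite (zpowers x)
      have hu := IsCyclic.card_orderOf_eq_totient (α := zpowers x) (d := 2)
        (by rw [← he, ← orderOf_mk e he1]; exact orderOf_dvd_card)
      rw [Nat.totient_two, Finset.card_eq_one] at hu
      obtain ⟨a, ha⟩ := hu
      have m : ∀ z : zpowers x, orderOf z = 2 → z = a := fun z hz =>
        Finset.mem_singleton.1 (ha ▸ by simpa using hz)
      rw [m ⟨e, he1⟩ (by rw [orderOf_mk, he]), m ⟨x ^ i, _⟩ (by rw [orderOf_mk, he3])]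
    have he5 : e = x ^ i := congrArg Subtype.val he4
    have : e = 1 := h.fpf e (by rw [← hi]; conv_lhs => rw [hi, he5, map_zpow])
    rw [this, orderOf_one] at he
    exact absurd he (by decide)
  let f : zpowers x × zpowers (σ x) →* A := (zpowers x).subtype.coprod (zpowers (σ x)).subtype
  have fi : Function.Injective f := by
    rw [injective_iff_map_eq_one]
    rintro ⟨⟨a, ha⟩, ⟨b, hb⟩⟩ e
    have e' : a * b = 1 := e
    have ha' : a ∈ zpowers (σ x) := by rw [eq_inv_of_mul_eq_one_left e']; exact inv_mem hb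
    have := disjoint_def.1 hd ha ha'
    subst this
    rw [one_mul] at e'
    subst e'
    rfl
  have fb : Function.Bijective f := fi.bijective_of_nat_card_le (by
    rw [Nat.card_prod, Nat.card_zpowers, Nat.card_zpowers, hn, hn', ← mul_pow]; exact hc)
  refine ⟨x, n, ?_, ⟨(MulEquiv.ofBijective f fb).symm.trans (MulEquiv.prodCongr ?_ ?_)⟩⟩
  · rw [eq_top_iff]
    intro a _
    obtain ⟨⟨⟨b, hb⟩, ⟨c, hc⟩⟩, rfl⟩ := fb.2 a
    exact mul_mem ((zpowers_le.2 (subset_closure (by simp))) hb)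
      ((zpowers_le.2 (subset_closure (by simp))) hc)
  · exact mulEquivOfCyclicCardEq (by rw [Nat.card_zpowers, hn]; simp)
  · exact mulEquivOfCyclicCardEq (by rw [Nat.card_zpowers, hn']; simp)

theorem caseA {A : Type*} [CommGroup A] [Finite A] (hA : IsPGroup 2 A) {σ τ : A →* A}
    (h : IsF σ) (hτ : ∀ x, τ (τ x) = x) (hc : ∀ x, σ (τ x) = τ (σ x))
    (h4 : Nat.card (τ.eqLocus (MonoidHom.id A)) ≤ 4) :
    (∃ x : A, ∃ n : ℕ, closure {x, σ x} = ⊤ ∧
      Nonempty (A ≃* Multiplicative (ZMod (2 ^ n)) × Multiplicative (ZMod (2 ^ n)))) ∨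
    ((∀ a : A, a * a = 1) ∧ Nat.card A = 16 ∧ ∃ x : A, closure {x, σ x, τ x, σ (τ x)} = ⊤) := by
  set V := τ.eqLocus (MonoidHom.id A) with hVd
  have mV : ∀ v, v ∈ V ↔ τ v = v := fun v => Iff.rfl
  by_cases h1 : (powMonoidHom 2 : A →* A).ker ≤ V
  · exact Or.inl (homocyclic hA h ((card_le_of_le h1).trans h4))
  right
  obtain ⟨e, he, he'⟩ := SetLike.not_le_iff_exists.1 h1
  have he2 : e * e = 1 := by simpa [sq] using he
  have hσ : ∀ v ∈ V, σ v ∈ V := fun v hv => by rw [mV, ← hc, (mV v).1 hv]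
  have hV2 : ∀ v ∈ V, v * v = 1 := fun v hv => sq_of_four h h4 hσ hv
  let δ : A →* A := τ / MonoidHom.id A
  have dδ : ∀ a, δ a = τ a / a := fun a => rfl
  have kδ : ∀ a, δ a = 1 ↔ a ∈ V := fun a => by rw [dδ, div_eq_one, mV]
  have σδ : ∀ a, σ (δ a) = δ (σ a) := fun a => by rw [dδ, dδ, map_div, hc]
  have nV : ∀ a, a * τ a ∈ V := fun a => by rw [mV, map_mul, hτ, mul_comm]
  have dV : ∀ a, a * a * (a * a) = 1 → δ a ∈ V := fun a ha => by
    have h2 : a * a ∈ V := by
      have := hV2 _ (nV a)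
      rw [mV, map_mul]
      refine mul_left_cancel (a := a * a) ?_
      rw [ha, ← this]; ac_rfl
    have : δ a = (a * τ a) / (a * a) := by rw [dδ, mul_div_mul_left_eq_div]
    rw [this]; exact div_mem (nV a) h2
  obtain ⟨c4, hall⟩ := four_sigma h h4 hσ (dV e (by simp [he2])) (fun e1 => he' ((kδ e).1 e1))
  have dec : ∀ a, δ a ∈ V → ∃ e', (e' = 1 ∨ e' = e ∨ e' = σ e ∨ e' = σ (σ e)) ∧ a / e' ∈ V := by
    intro a ha
    have : ∃ e', (e' = 1 ∨ e' = e ∨ e' = σ e ∨ e' = σ (σ e)) ∧ δ a = δ e' := by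
      rcases hall _ ha with e1 | e1 | e1 | e1
      · exact ⟨1, by simp, by rw [e1, map_one]⟩
      · exact ⟨e, by simp, e1⟩
      · exact ⟨σ e, by simp, by rw [e1, σδ]⟩
      · exact ⟨σ (σ e), by simp, by rw [e1, σδ, σδ]⟩
    obtain ⟨e', h1, h2⟩ := this
    exact ⟨e', h1, (kδ _).1 (by rw [map_div, h2, div_self'])⟩
  have s4 : ∀ a : A, a * a * (a * a) = 1 → a * a = 1 := fun a ha => by
    obtain ⟨e', h1, h2⟩ := dec a (dV a ha)
    have h3 : e' * e' = 1 := by
      rcases h1 with rfl | rfl | rfl | rfl <;> simp [← map_mul, he2]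
    have h5 := hV2 _ h2
    rwa [div_mul_div_comm, h3, div_one] at h5
  have s2 : ∀ a : A, a * a = 1 := fun a => by
    obtain ⟨k, hk⟩ := hA a
    induction k generalizing a with
    | zero => simp at hk; simp [hk]
    | succ k ih => exact s4 a (ih (a * a) (by rw [← sq, ← pow_mul, ← pow_succ', hk]))
  have dV' : ∀ a, δ a ∈ V := fun a => dV a (s2 _)
  refine ⟨s2, ?_, e, ?_⟩
  · have h5 := δ.ker.card_mul_index
    have h6 : δ.ker = V := by ext a; exact kδ a
    have h7 : δ.range = V := by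
      refine le_antisymm (by rintro _ ⟨a, rfl⟩; exact dV' a) fun w hw => ?_
      rcases hall _ hw with rfl | rfl | rfl | rfl
      · exact one_mem _
      · exact ⟨_, rfl⟩
      · exact ⟨_, (σδ _).symm⟩
      · exact ⟨σ (σ e), by rw [σδ, σδ]⟩
    rw [index_ker, h6, h7, c4] at h5
    exact h5.symm
  · set B := closure ({e, σ e, τ e, σ (τ e)} : Set A)
    have m0 : e ∈ B := subset_closure (by simp)
    have m1 : σ e ∈ B := subset_closure (by simp)
    have m2 : τ e ∈ B := subset_closure (by simp)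
    have m3 : σ (τ e) ∈ B := subset_closure (by simp)
    have m4 : ∀ a, a ∈ B → σ a ∈ B → σ (σ a) ∈ B := fun a h1 h2 => by
      rw [eq_inv_of_mul_eq_one_right (h.norm a)]; exact inv_mem (mul_mem h1 h2)
    have m5 : δ e ∈ B := div_mem m2 m0
    have m6 : σ (δ e) ∈ B := by rw [dδ, map_div]; exact div_mem m3 m1
    rw [eq_top_iff]
    intro a _
    obtain ⟨e', h1, h2⟩ := dec a (dV' a)
    have h3 : e' ∈ B := by
      rcases h1 with rfl | rfl | rfl | rfl
      exacts [one_mem _, m0, m1, m4 _ m0 m1]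
    have h5 : a / e' ∈ B := by
      rcases hall _ h2 with e1 | e1 | e1 | e1 <;> rw [e1]
      exacts [one_mem _, m5, m6, m4 _ m5 m6]
    simpa using mul_mem h5 h3

theorem count {T Q : Type*} [Group T] [Finite T] [Group Q] (π : T →* Q) (hπ : Function.Surjective π)
    (τ : T →* T) (τ' : Q →* Q) (h : ∀ x, τ' (π x) = π (τ x)) :
    Nat.card (τ'.eqLocus (MonoidHom.id Q)) ≤ Nat.card (τ.eqLocus (MonoidHom.id T)) := by
  set W := (τ'.eqLocus (MonoidHom.id Q)).comap π
  set C := τ.eqLocus (MonoidHom.id T)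
  have mW : ∀ x, x ∈ W ↔ x⁻¹ * τ x ∈ π.ker := fun x => by
    rw [MonoidHom.mem_ker, map_mul, map_inv, inv_mul_eq_one, ← h, eq_comm]; rfl
  have h1 : Nat.card W = Nat.card π.ker * Nat.card (τ'.eqLocus (MonoidHom.id Q)) := by
    have : Finite Q := Finite.of_surjective π hπ
    have e1 := W.card_mul_index
    have e2 := π.ker.card_mul_index
    have e3 := (τ'.eqLocus (MonoidHom.id Q)).card_mul_index
    rw [index_ker, MonoidHom.range_eq_top.2 hπ, card_top, ← e3, ← e1,
      index_comap_of_surjective _ hπ, ← mul_assoc] at e2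
    exact (Nat.eq_of_mul_eq_mul_right (Nat.pos_of_ne_zero index_ne_zero_of_finite) e2).symm
  have h2 : Nat.card W ≤ Nat.card π.ker * Nat.card C := by
    classical
    let r : T → T := fun n => if hn : ∃ x, x⁻¹ * τ x = n then hn.choose else 1
    have hr : ∀ x, (r (x⁻¹ * τ x))⁻¹ * τ (r (x⁻¹ * τ x)) = x⁻¹ * τ x := fun x => by
      have hn : ∃ y, y⁻¹ * τ y = x⁻¹ * τ x := ⟨x, rfl⟩
      simp only [r, dif_pos hn]
      exact hn.choose_spec
    rw [← Nat.card_prod]
    refine Nat.card_le_card_of_injective (fun x : W => ((⟨x.1⁻¹ * τ x.1, (mW _).1 x.2⟩ : π.ker),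
      (⟨x.1 * (r (x.1⁻¹ * τ x.1))⁻¹, by
        change τ _ = _ * _
        rw [map_mul, map_inv, mul_inv_eq_iff_eq_mul, mul_assoc, hr]; group⟩ : C))) ?_
    intro x y e
    have e1 : x.1⁻¹ * τ x.1 = y.1⁻¹ * τ y.1 := congrArg (fun p => p.1.1) e
    have e2 : x.1 * (r (x.1⁻¹ * τ x.1))⁻¹ = y.1 * (r (y.1⁻¹ * τ y.1))⁻¹ := congrArg (fun p => p.2.1) e
    rw [e1] at e2
    exact Subtype.ext (mul_right_cancel e2)
  rw [h1] at h2
  exact Nat.le_of_mul_le_mul_left h2 Nat.card_pos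

theorem comm_of_gen {T Q : Type*} [Group T] [Group Q] (π : T →* Q) (S : Set T)
    (hS : closure S ⊔ center T = ⊤) (h : ∀ a ∈ S, ∀ b ∈ S, Commute (π a) (π b)) (a b : T) :
    Commute (π a) (π b) := by
  have k : ∀ b : T, (∀ a ∈ S, Commute (π a) (π b)) → ∀ a, Commute (π a) (π b) := fun b hb a => by
    have : (⊤ : Subgroup T) ≤ (centralizer {π b}).comap π := by
      rw [← hS]
      refine sup_le ((closure_le _).2 fun s hs => ?_) fun z hz => ?_
      · exact mem_centralizer_singleton_iff.2 (hb s hs)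
      · exact mem_centralizer_singleton_iff.2
          (Commute.map (show Commute z b from (mem_center_iff.1 hz b).symm) π)
    exact mem_centralizer_singleton_iff.1 (this (mem_top a))
  exact k b (fun s hs => (k s (fun t ht => h t ht s hs) b).symm) a

theorem main {T : Type*} [Group T] [Finite T] (hT : IsPGroup 2 T) {σ τ : T →* T}
    (h : IsF σ) (hτ : ∀ x, τ (τ x) = x) (hc : ∀ x, σ (τ x) = τ (σ x))
    (h4 : Nat.card (τ.eqLocus (MonoidHom.id T)) ≤ 4) :
    (Nat.card T = 16 ∧ ∀ x : T, x * x = 1) ∨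
    (∃ n : ℕ, Nonempty (T ≃* Multiplicative (ZMod (2 ^ n)) × Multiplicative (ZMod (2 ^ n)))) ∨
    (Nat.card T = 64 ∧ ∃ k0 k1 : ℕ, (k0 = 0 ∨ k0 = 1) ∧ (k1 = 0 ∨ k1 = 1) ∧
      ∃ x0 x1 y0 y1 c0 c1 : T, Data k0 k1 x0 x1 y0 y1 c0 c1 ∧ closure {x0, x1, y0, y1} = ⊤) := by
  by_cases hcomm : ∀ a b : T, Commute a b
  · let _ : CommGroup T := { (inferInstance : Group T) with mul_comm := hcomm }
    rcases caseA hT h hτ hc h4 with ⟨x, n, -, e⟩ | ⟨h1, h2, -⟩
    · exact Or.inr (Or.inl ⟨n, e⟩)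
    · exact Or.inl ⟨h2, h1⟩
  right; right
  set V := τ.eqLocus (MonoidHom.id T) with hVd
  have mV : ∀ v, v ∈ V ↔ τ v = v := fun v => Iff.rfl
  have hσ : ∀ v ∈ V, σ v ∈ V := fun v hv => by rw [mV, ← hc, (mV v).1 hv]
  have hV2 : ∀ v ∈ V, v * v = 1 := fun v hv => sq_of_four h h4 hσ hv
  let π : T →* Abelianization T := Abelianization.of
  have hπ : Function.Surjective π := QuotientGroup.mk_surjective
  have hk : π.ker = commutator T := Abelianization.ker_of T
  have : Finite (Abelianization T) := Finite.of_surjective π hπ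
  have hA : IsPGroup 2 (Abelianization T) := hT.of_surjective π hπ
  have hZ : commutator T ≤ center T := by
    rw [_root_.commutator_def, commutator_le]
    exact fun a _ b _ => mem_center_iff.2 fun g => h.comm_central g a b
  have h' : IsF (Abelianization.map σ) := by
    refine ⟨hπ.forall.2 fun x => congrArg π (h.cube x), hπ.forall.2 fun x hx => ?_⟩
    have h1 : π (σ x) = π x := hx
    have h2 : π (σ (σ x)) = π x := (congrArg (Abelianization.map σ) h1).trans hx
    have h3 := congrArg π (h.norm x)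
    rw [map_mul, map_mul, h1, h2, map_one, ← pow_three'] at h3
    obtain ⟨k, hk⟩ := hA (π x)
    exact pow_gcd_eq_one.2 ⟨h3, hk⟩ |> fun e => by
      rwa [Nat.Coprime.gcd_eq_one (Nat.Coprime.pow_right _ (by decide)), pow_one] at e
  have lift : ∀ S : Set T, closure (π '' S) = ⊤ → closure S ⊔ commutator T = ⊤ := fun S hS => by
    rw [← hk, ← comap_map_eq, MonoidHom.map_closure, hS, comap_top]
  have lift' : ∀ S : Set T, closure (π '' S) = ⊤ → closure S ⊔ center T = ⊤ := fun S hS =>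
    top_le_iff.1 ((lift S hS).ge.trans (sup_le_sup_left hZ _))
  rcases caseA hA (τ := Abelianization.map τ) h' (hπ.forall.2 fun x => congrArg π (hτ x))
    (hπ.forall.2 fun x => congrArg π (hc x)) ((count π hπ τ _ fun _ => rfl).trans h4) with
    ⟨x, n, hx, -⟩ | ⟨h1, h2, x, hx⟩
  · obtain ⟨x, rfl⟩ := hπ x
    refine absurd (comm_of_gen (MonoidHom.id T) {x, σ x} (lift' _ (by
      rw [Set.image_pair]; exact hx)) ?_) hcomm
    rintro a (rfl | rfl) b (rfl | rfl)
    exacts [Commute.refl _, h.comm_sigma _, (h.comm_sigma _).symm, Commute.refl _]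
  obtain ⟨x, rfl⟩ := hπ x
  have hx' : closure (π '' {x, σ x, τ x, σ (τ x)}) = ⊤ := by
    simp only [Set.image_insert_eq, Set.image_singleton]; exact hx
  have hsq : ∀ a : T, a * a ∈ commutator T := fun a => by
    rw [← hk, MonoidHom.mem_ker, map_mul, h1]
  set c := ⁅x, τ x⁆ with hcd
  have cc : ∀ a b g : T, g * ⁅a, b⁆ = ⁅a, b⁆ * g := fun a b g => h.comm_central g a b
  have c2 : c * c = 1 := by
    have e1 : ⁅x * x, τ x⁆ = 1 :=
      commutatorElement_eq_one_iff_commute.2 (mem_center_iff.1 (hZ (hsq x)) _).symm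
    have e2 : ⁅x * x, τ x⁆ = x * c * x⁻¹ * c := by simp only [hcd, commutatorElement_def]; group
    rw [← e1, e2, cc x (τ x) x, mul_inv_cancel_right]
  have cV : c ∈ V := by
    rw [mV, hcd, map_commutatorElement, hτ, ← commutatorElement_inv, ← hcd]
    exact inv_eq_of_mul_eq_one_right c2
  have σc : σ c = ⁅σ x, σ (τ x)⁆ := map_commutatorElement _ _ _
  have σσc : σ (σ c) = c * σ c := by
    rw [eq_inv_of_mul_eq_one_right (h.norm c)]
    exact inv_eq_of_mul_eq_one_right (hV2 _ (mul_mem cV (hσ _ cV)))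
  have e10 : ⁅σ x, τ x⁆ = c * σ c := by rw [h.comm_sigma_left, σσc]
  have e01 : ⁅x, σ (τ x)⁆ = c * σ c := by rw [h.comm_sigma_right, σσc]
  set N := closure ({c, σ c} : Set T)
  have n0 : c ∈ N := subset_closure (by simp)
  have n1 : σ c ∈ N := subset_closure (by simp)
  have NC : N ≤ commutator T := (closure_le _).2 (by
    rintro _ (rfl | rfl)
    · exact commutator_mem_commutator (mem_top _) (mem_top _)
    · rw [σc]; exact commutator_mem_commutator (mem_top _) (mem_top _))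
  have NV : N ≤ V := (closure_le _).2 (by
    rintro _ (rfl | rfl)
    exacts [cV, hσ _ cV])
  have : N.Normal := ⟨fun n hn g => by
    rw [mem_center_iff.1 (hZ (NC hn)) g, mul_inv_cancel_right]; exact hn⟩
  have CN : commutator T ≤ N := by
    have k : ∀ a b : T, ⁅a, b⁆ ∈ N ↔ Commute (QuotientGroup.mk' N a) (QuotientGroup.mk' N b) :=
      fun a b => by
        rw [← commutatorElement_eq_one_iff_commute, ← map_commutatorElement]
        exact (QuotientGroup.eq_one_iff _).symm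
    have k1 : ∀ a b : T, Commute a b → Commute (QuotientGroup.mk' N a) (QuotientGroup.mk' N b) :=
      fun a b e => e.map _
    have p1 := (k _ _).1 n0
    have p2 := (k _ _).1 (σc ▸ n1)
    have p3 := (k _ _).1 (e10 ▸ mul_mem n0 n1)
    have p4 := (k _ _).1 (e01 ▸ mul_mem n0 n1)
    have p5 := k1 _ _ (h.comm_sigma x)
    have p6 := k1 _ _ (h.comm_sigma (τ x))
    rw [_root_.commutator_def, commutator_le]
    refine fun a _ b _ => (k a b).2 (comm_of_gen _ _ (lift' _ hx') ?_ a b)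
    rintro a (rfl | rfl | rfl | rfl) b (rfl | rfl | rfl | rfl) <;>
      first | exact Commute.refl _ | assumption | (apply Commute.symm; assumption)
  have c1 : c ≠ 1 := by
    intro e
    refine hcomm fun a b => commutatorElement_eq_one_iff_commute.1 (mem_bot.1 ?_)
    have : N ≤ ⊥ := (closure_le _).2 (by rintro _ (rfl | rfl) <;> simp [e])
    exact this (CN (commutator_mem_commutator (mem_top _) (mem_top _)))
  obtain ⟨c4, hall⟩ := four_sigma h h4 hσ cV c1
  have VN : V ≤ N := fun w hw => by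
    rcases hall w hw with rfl | rfl | rfl | rfl
    exacts [one_mem _, n0, n1, σσc ▸ mul_mem n0 n1]
  have hCV : commutator T = V := le_antisymm (CN.trans NV) (VN.trans NC)
  refine ⟨?_, ?_⟩
  · have := π.ker.card_mul_index
    rw [index_ker, MonoidHom.range_eq_top.2 hπ, card_top, h2, hk, hCV, c4] at this
    exact this.symm
  have hxx : x * x ∈ V := hCV ▸ hsq x
  obtain ⟨k0, k1, hk0, hk1, e⟩ : ∃ k0 k1 : ℕ, (k0 = 0 ∨ k0 = 1) ∧ (k1 = 0 ∨ k1 = 1) ∧
      x * x = c ^ k0 * σ c ^ k1 := by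
    rcases hall _ hxx with e | e | e | e
    · exact ⟨0, 0, by simp, by simp, by simp [e]⟩
    · exact ⟨1, 0, by simp, by simp, by simp [e]⟩
    · exact ⟨0, 1, by simp, by simp, by simp [e]⟩
    · exact ⟨1, 1, by simp, by simp, by simp [e, σσc]⟩
  have ey : τ x * τ x = c ^ k0 * σ c ^ k1 := by rw [← map_mul, (mV _).1 hxx, e]
  have cc0 : ∀ g, g * c = c * g := fun g => cc _ _ g
  have cc1 : ∀ g, g * σ c = σ c * g := fun g => by rw [σc]; exact cc _ _ g
  have es : σ (c ^ k0 * σ c ^ k1) = c ^ k1 * σ c ^ (k0 + k1) := by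
    rw [map_mul, map_pow, map_pow, σσc, Commute.mul_pow (cc1 c), pow_add, ← mul_assoc,
      ← mul_assoc, (Commute.pow_pow (cc0 (σ c)) k0 k1).eq]
  have ce : ∀ a b d : T, ⁅a, b⁆ = d → a * b = d * b * a := fun a b d e => by
    rw [← e, commutatorElement_def]; group
  refine ⟨k0, k1, hk0, hk1, x, σ x, τ x, σ (τ x), c, σ c, ⟨h.comm_sigma _, h.comm_sigma _,
    ce _ _ _ rfl, ce _ _ _ e10, ce _ _ _ e01, ce _ _ _ σc.symm, ⟨cc0 _, cc0 _, cc0 _, cc0 _⟩,
    ⟨cc1 _, cc1 _, cc1 _, cc1 _⟩, cc1 _, c2, by rw [← map_mul, c2, map_one], e, ey,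
    by rw [← map_mul, e, es], by rw [← map_mul, ey, es]⟩, ?_⟩
  rw [eq_top_iff, ← lift _ hx']
  refine sup_le le_rfl (CN.trans ((closure_le _).2 ?_))
  have q : ∀ a b : T, a ∈ closure ({x, σ x, τ x, σ (τ x)} : Set T) →
      b ∈ closure ({x, σ x, τ x, σ (τ x)} : Set T) →
      ⁅a, b⁆ ∈ closure ({x, σ x, τ x, σ (τ x)} : Set T) := fun a b ha hb =>
    mul_mem (mul_mem (mul_mem ha hb) (inv_mem ha)) (inv_mem hb)
  rintro _ (rfl | rfl)
  · exact q _ _ (subset_closure (by simp)) (subset_closure (by simp))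
  · rw [σc]; exact q _ _ (subset_closure (by simp)) (subset_closure (by simp))

/-- conjugation by a normalising element -/
def cj {G : Type*} [Group G] {T : Subgroup G} {g : G} (hg : g ∈ normalizer (T : Set G)) : T →* T where
  toFun x := ⟨g * x * g⁻¹, (mem_normalizer_iff.1 hg x).1 x.2⟩
  map_one' := Subtype.ext (by simp)
  map_mul' x y := Subtype.ext (by simp [mul_assoc])


/-- Let T be a 2-subgroup of a finite group G, V ≤ Z(T) a four-group, and t, ρ ∈ N_G(V) ∩ N_G(T) elements of order 2 and 3 with t commuting with ρ and with V. If [V, ρ] = V and C_T(t) = V, then T is elementary abelian of order 16, or homocyclic of rank 2 (ℤ/2ⁿ × ℤ/2ⁿ for some n ≥ 1), or isomorphic to a Sylow 2-subgroup of PSL₃(4) or of PSU₃(4). -/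
theorem result {G : Type*} [Group G] [Finite G] (T V : Subgroup G) (hT : IsPGroup 2 ↥T) (hVT : V ≤ T ⊓ Subgroup.centralizer (T : Set G)) (hV : Nat.card ↥V = 4 ∧ ∀ v ∈ V, v ^ 2 = 1) (t ρ : G) (ht : orderOf t = 2) (hρ : orderOf ρ = 3) (htn : t ∈ Subgroup.normalizer (V : Set G) ⊓ Subgroup.normalizer (T : Set G)) (hρn : ρ ∈ Subgroup.normalizer (V : Set G) ⊓ Subgroup.normalizer (T : Set G)) (htρ : t * ρ = ρ * t) (htV : t ∈ Subgroup.centralizer (V : Set G)) (hVρ : ⁅V, Subgroup.zpowers ρ⁆ = V) (hCt : T ⊓ Subgroup.centralizer ({t} : Set G) = V) : (Nat.card ↥T = 16 ∧ ∀ x ∈ T, x ^ 2 = 1) ∨ (∃ n : ℕ, 1 ≤ n ∧ Nonempty (↥T ≃* Multiplicative (ZMod (2 ^ n)) × Multiplicative (ZMod (2 ^ n)))) ∨ (∃ (F : Type) (_ : Field F) (_ : Fintype F), Fintype.card F = 4 ∧ ∀ P : Sylow 2 (Matrix.ProjectiveSpecialLinearGroup (Fin 3) F), Nonempty (↥T ≃* ↥(P : Subgroup (Matrix.ProjectiveSpecialLinearGroup (Fin 3) F)))) ∨ (∃ (F : Type) (_ : Field F) (_ : Fintype F), Fintype.card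 F = 16 ∧ ∀ P : Sylow 2 (Cfsg.PSU 3 F 4), Nonempty (↥T ≃* ↥(P : Subgroup (Cfsg.PSU 3 F 4)))) := by
  have h3 : ρ ^ 3 = 1 := hρ ▸ pow_orderOf_eq_one ρ
  have h2 : t ^ 2 = 1 := ht ▸ pow_orderOf_eq_one t
  have cube : ∀ x : G, ρ * (ρ * (ρ * x * ρ⁻¹) * ρ⁻¹) * ρ⁻¹ = x := fun x => by
    calc _ = ρ ^ 3 * x * (ρ ^ 3)⁻¹ := by simp only [pow_succ, pow_zero]; group
      _ = x := by rw [h3]; group
  have hVf : ∀ v ∈ V, ρ * v * ρ⁻¹ = v → v = 1 := by
    intro v hv e
    by_contra h1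
    have hall : ∀ w ∈ V, ρ * w * ρ⁻¹ = w := by
      intro w hw
      by_cases w1 : w = 1
      · simp [w1]
      by_cases wv : w = v
      · rw [wv, e]
      have v2 : v * v = 1 := by rw [← sq]; exact hV.2 v hv
      have w2 : w * w = 1 := by rw [← sq]; exact hV.2 w hw
      obtain ⟨-, k⟩ := four_elems hV.1.le hv hw (mul_mem hw hv) (Ne.symm h1) (Ne.symm w1)
        (fun e1 => wv (by rw [← mul_one w, ← v2, ← mul_assoc, ← e1, one_mul])) (Ne.symm wv)
        (fun e1 => w1 (by simpa using e1)) (fun e1 => h1 (by simpa using e1))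
      rcases k _ ((mem_normalizer_iff.1 hρn.1 w).1 hw) with e1 | e1 | e1 | e1
      · exact absurd (by simpa using e1) w1
      · rw [← e] at e1; exact absurd (by simpa using e1) wv
      · exact e1
      · have e2 : ρ * (w * v) * ρ⁻¹ = w := by
          calc _ = (ρ * w * ρ⁻¹) * (ρ * v * ρ⁻¹) := by group
            _ = w := by rw [e1, e, mul_assoc, v2, mul_one]
        have := cube w
        rw [e1, e2, e1] at this
        exact absurd (by simpa using this) h1
    have : ⁅V, zpowers ρ⁆ = ⊥ := by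
      rw [commutator_eq_bot_iff_le_centralizer]
      intro w hw
      rw [mem_centralizer_iff]
      rintro _ ⟨k, rfl⟩
      exact Commute.zpow_left (mul_inv_eq_iff_eq_mul.1 (hall w hw)) k
    rw [hVρ] at this
    rw [this, card_bot] at hV
    exact absurd hV.1 (by decide)
  have htf : ∀ x ∈ T, t * x * t⁻¹ = x ↔ x ∈ V := fun x hx => by
    rw [← hCt, mem_inf, mem_centralizer_singleton_iff, mul_inv_eq_iff_eq_mul, eq_comm]
    simp [hx]
  have hf : IsF (cj hρn.2) := by
    refine ⟨fun x => Subtype.ext (cube x), fun x hx => ?_⟩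
    by_contra h1
    let C := (cj hρn.2).eqLocus (MonoidHom.id T)
    have mC : ∀ y : T, y ∈ C ↔ ρ * y * ρ⁻¹ = y := fun y => Subtype.ext_iff
    have hCp : IsPGroup 2 C := hT.to_subgroup C
    obtain ⟨k, hk⟩ := hCp.exists_card_eq
    have hk0 : k ≠ 0 := by
      rintro rfl
      exact h1 (mem_bot.1 (card_eq_one.1 hk ▸ (show x ∈ C from hx)))
    let θ : C →* C := ((cj htn.2).comp C.subtype).codRestrict C fun y => (mC _).2 (by
      have := (mC _).1 y.2
      change ρ * (t * y.1.1 * t⁻¹) * ρ⁻¹ = t * y.1.1 * t⁻¹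
      calc _ = (ρ * t) * y.1.1 * (ρ * t)⁻¹ := by group
        _ = t * (ρ * y.1.1 * ρ⁻¹) * t⁻¹ := by rw [← htρ]; group
        _ = _ := by rw [this])
    have hθ : MonoidHom.FixedPointFree θ := fun y hy =>
      Subtype.ext (Subtype.ext (hVf _ ((htf _ y.1.2).1 (congrArg (fun z : C => z.1.1) hy))
        ((mC _).1 y.2)))
    have := hθ.odd_card_of_involutive fun y => Subtype.ext (Subtype.ext (by
      change t * (t * y.1.1 * t⁻¹) * t⁻¹ = y.1.1
      calc _ = t ^ 2 * y.1.1 * (t ^ 2)⁻¹ := by simp only [pow_succ, pow_zero]; group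
        _ = _ := by rw [h2]; group))
    rw [hk, Nat.odd_pow_iff hk0] at this
    exact absurd this (by decide)
  have hE : (cj htn.2).eqLocus (MonoidHom.id T) = V.subgroupOf T := by
    ext x
    exact Subtype.ext_iff.trans (htf _ x.2)
  have hE4 : Nat.card (V.subgroupOf T) = 4 := by
    rw [← hV.1]; exact Nat.card_congr (subgroupOfEquivOfLe (hVT.trans inf_le_left)).toEquiv
  rcases main hT hf (τ := cj htn.2) (fun x => Subtype.ext (by
      change t * (t * x.1 * t⁻¹) * t⁻¹ = x.1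
      calc _ = t ^ 2 * x.1 * (t ^ 2)⁻¹ := by simp only [pow_succ, pow_zero]; group
        _ = _ := by rw [h2]; group)) (fun x => Subtype.ext (by
      change ρ * (t * x.1 * t⁻¹) * ρ⁻¹ = t * (ρ * x.1 * ρ⁻¹) * t⁻¹
      calc _ = (ρ * t) * x.1 * (ρ * t)⁻¹ := by group
        _ = _ := by rw [← htρ]; group)) (by rw [hE, hE4]) with
    ⟨h5, h6⟩ | ⟨n, ⟨e⟩⟩ | ⟨h5, k0, k1, hk0, hk1, x0, x1, y0, y1, c0, c1, hd, hg⟩
  · exact Or.inl ⟨h5, fun x hx => by rw [sq]; exact congrArg Subtype.val (h6 ⟨x, hx⟩)⟩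
  · refine Or.inr (Or.inl ⟨n, ?_, ⟨e⟩⟩)
    rcases n with _ | n
    · have h7 := Nat.card_congr e.toEquiv
      have h8 := card_le_of_le (hVT.trans inf_le_left)
      rw [Nat.card_prod, Nat.card_congr Multiplicative.toAdd, Nat.card_zmod] at h7
      omega
    · omega
  · rcases hk1 with rfl | rfl
    · exact Or.inr (Or.inr (Or.inl ⟨CfH3.F4, inferInstance, inferInstance, CfH3.card_F4,
        sylow_L34 hk0 hd hg h5⟩))
    · exact Or.inr (Or.inr (Or.inr ⟨F16, inferInstance, inferInstance, card_F16,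
        sylow_U34 hk0 hd hg h5⟩))

end Cfsg.Agent.S2933
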