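import Cfsg.Statements.S2968
import Cfsg.Agent.OD.Pre
import Cfsg.Agent.H9.Isolated

set_option autoImplicit false
open Cfsg

namespace Cfsg.Agent.S2968
open Subgroup CfH9 CfH7
open scoped commutatorElement


/-- Let G be a finite group, p a prime, P a Sylow p-subgroup of G and x ∈ P an element of p-power order which is isolated in G (the only conjugate of x commuting with x is x itself). Then x lies in the centre of P, and the subgroup generated by x is both strongly closed and weakly closed in P with respect to G. -/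
theorem result {G : Type*} [Group G] [Finite G] {p : ℕ} [Fact p.Prime] (P : Sylow p G) (x : G) (hxP : x ∈ (P : Subgroup G)) (hx : ∃ k : ℕ, orderOf x = p ^ k) (hiso : Cfsg.IsIsolated x) : x ∈ (P : Subgroup G) ⊓ Subgroup.centralizer ((P : Subgroup G) : Set G) ∧ Cfsg.IsStronglyClosed (Subgroup.zpowers x) (P : Subgroup G) ∧ Cfsg.IsWeaklyClosed (Subgroup.zpowers x) (P : Subgroup G) := by
  obtain ⟨k, hk⟩ := hx
  have hk := pow_eq_one_of_orderOf hk
  have h1 := le_Cx_iff.1 (iso_le_Cx hiso P.2 hxP)
  refine ⟨mi hxP h1, ⟨by simpa using hxP, fun y hy g hg => ?_⟩, by simpa using hxP, fun g hg => ?_⟩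
  · have hxy : x ∈ Cx(y) := by
      obtain ⟨n, rfl⟩ := hy
      exact mem_Cx.2 (Commute.self_zpow x n).eq
    obtain ⟨c, hc, he⟩ := iso_conj hiso hk (K := Cx(g * y * g⁻¹)) (g := g) (Cz_le_Cx hg h1)
      (by rw [← cj_Cx]; exact conj_mem_cj g hxy)
    have h2 : c * g ∈ Cx(y) := by
      rw [← Cz_zpowers] at he; exact Cz_le_Cx hy he
    have : g * y * g⁻¹ = y := by
      rw [← mem_Cx'.1 hc]
      conv_rhs => rw [← mem_Cx'.1 h2]
      group
    rwa [this]
  · rw [← cj_def, cj_zpowers] at hg ⊢
    rw [iso_eq_of_mem hiso P.2 hxP (hg (mem_zpowers _))]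

end Cfsg.Agent.S2968
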