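import Cfsg.Statements.S2975
import Cfsg.Agent.OD.Pre
import Cfsg.Agent.H9.Iso2

set_option autoImplicit false
open Cfsg

namespace Cfsg.Agent.S2975
open Subgroup CfH9 CfH7
open scoped commutatorElement


/-- Let G be a finite group, p a prime and x ∈ G an isolated element of order p (the only conjugate of x commuting with x is x) which is not central modulo the largest normal subgroup of order prime to p, while x is central modulo the largest normal subgroup of order prime to p in every proper subgroup containing x, and the image of x is so in every quotient of G by a nontrivial normal subgroup (a minimal counterexample to the Z*_p statement). Then for every prime q, every q-subgroup of G that is normalized by x and maximal among the q-subgroups normalized by x is either trivial or a Sylow q-subgroup of G; and C_G(x) permutes the x-invariant Sylow q-subgroups of G transitively by conjugation. -/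
theorem result {G : Type*} [Group G] [Finite G] {p : ℕ} [Fact p.Prime] (x : G) (hx : orderOf x = p) (hiso : Cfsg.IsIsolated x) (hnz : ¬ Cfsg.InZStar p x) (hmin : ∀ (H : Subgroup G) (hxH : x ∈ H), H ≠ ⊤ → Cfsg.InZStar p (⟨x, hxH⟩ : ↥H)) (hquot : ∀ (N : Subgroup G) [N.Normal], N ≠ ⊥ → Cfsg.InZStar p (QuotientGroup.mk x : G ⧸ N)) (q : ℕ) [Fact q.Prime] : (∀ Q : Subgroup G, IsPGroup q ↥Q → x ∈ Subgroup.normalizer (Q : Set G) → (∀ R : Subgroup G, IsPGroup q ↥R → x ∈ Subgroup.normalizer (R : Set G) → Q ≤ R → R = Q) → Q = ⊥ ∨ ∃ S : Sylow q G, (S : Subgroup G) = Q) ∧ (∀ S₁ S₂ : Sylow q G, x ∈ Subgroup.normalizer ((S₁ : Subgroup G) : Set G) → x ∈ Subgroup.normalizer ((S₂ : Subgroup G) : Set G) → ∃ c ∈ Subgroup.centralizer ({x} : Set G), (S₁ : Subgroup G).map (MulAut.conj c).toMonoidHom = (S₂ : Subgroup G)) := by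
  have h : ZMin p x := ⟨hx, hiso, hnz, hmin, hquot⟩
  refine ⟨fun Q hQ hxQ hmax => ?_, fun S₁ S₂ h1 h2 => ?_⟩
  · by_cases hQ1 : Q = ⊥
    · exact Or.inl hQ1
    refine Or.inr (SylIn.exists_sylow ?_)
    by_cases hqp : q = p
    · subst hqp
      obtain ⟨S, hS, hle⟩ := exists_sylIn_ge
        (isPGroup_sup (isPGroup_zpowers h.pw) hQ ((zpowers_le).2 hxQ)) le_top
      rw [← hmax S hS.2 (le_normalizer (hle (mem_sup_left (mem_zpowers x))))
        (le_sup_right.trans hle)]
      exact hS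
    have hN : Nm(Q) ≠ ⊤ := fun e => hQ1 (eq_bot_iff.2 (h.core ▸ le_pPrimeCore_of_subnormal
      (normal_iff_top_le_Nm.2 e.ge).isSubnormal (coprime_card_of_isPGroup_of_ne hqp hQ)))
    set O := pPrimeCoreOf p Nm(Q) with hO
    obtain ⟨T, hT⟩ := exists_sylIn q (Nm(Q) ⊓ Cx(x))
    have hNO : Nm(Q) ≤ Nm(O) := le_normalizer_pPrimeCoreOf _
    have hTO : T ≤ Nm(O) := (hT.1.trans inf_le_left).trans hNO
    have hle : O ⊔ T ≤ Nm(Q) := sup_le (pPrimeCoreOf_le _) (hT.1.trans inf_le_left)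
    have hcop : (Nat.card (T ⊔ O : Subgroup G)).Coprime p :=
      Nat.Coprime.coprime_dvd_left (Dvd.intro _ (card_sup_mul_card_inf hTO))
        (Nat.Coprime.mul_left (coprime_card_of_isPGroup_of_ne hqp hT.2)
          (coprime_card_pPrimeCoreOf _))
    rw [sup_comm] at hcop
    have hxT : x ∈ Nm(T) := Cz_le_Nm _ (le_Cx_iff.1 (hT.1.trans inf_le_right))
    obtain ⟨R, hR, hxR⟩ := CfH8.exists_invariant_sylIn (A := zpowers x) (N := O ⊔ T) q
      ((zpowers_le).2 (mem_Nm_sup (hNO hxQ) hxT))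
      (by rw [Nat.card_zpowers, hx]; exact hcop.symm) (Or.inl (CfH8.isSolvable_zpowers x))
    have hsup : Nm(Q) = O ⊔ (Nm(Q) ⊓ Cx(x)) := by
      refine le_antisymm (fun g hg => ?_) (sup_le (pPrimeCoreOf_le _) inf_le_left)
      have h1 : g * x * g⁻¹ ∈ O ⊔ zpowers x := by
        simpa using mul_mem (mem_sup_left (h.sub' hxQ hN hg)) (mem_sup_right (mem_zpowers x))
      obtain ⟨c, hc, hcg⟩ := iso_conj hiso h.pw (mem_sup_right (mem_zpowers x)) h1
      have h2 : O ⊔ zpowers x ≤ O ⊔ (Nm(Q) ⊓ Cx(x)) :=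
        sup_le_sup_left ((zpowers_le).2 (mi hxQ (mem_Cx.2 rfl))) _
      have h3 : c * g ∈ Nm(Q) := mul_mem (sup_le (pPrimeCoreOf_le _) ((zpowers_le).2 hxQ) hc) hg
      simpa using mul_mem (inv_mem (h2 hc)) (mem_sup_right (mi h3 hcg))
    have hR' : SylIn q R Nm(Q) := by
      refine hR.trans hle fun hd => hT.not_dvd_relIndex (hd.trans ?_)
      conv_lhs => rw [hsup]
      exact relIndex_sup_dvd hT.1 (inf_le_left.trans hNO)
    have h4 : Q ≤ R := hR'.le_of_le_Nm hQ le_normalizer hR'.1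
    rw [hmax R hR.2 (hxR (mem_zpowers x)) h4] at hR'
    exact sylIn_of_sylIn_Nm le_top (by rwa [top_inf_eq])
  · obtain ⟨g, -, hg⟩ := (sylIn_top S₁).conj (sylIn_top S₂)
    have h3 : g⁻¹ * x * g⁻¹⁻¹ ∈ Nm((S₁ : Subgroup G)) := by
      rw [inv_inv, ← mem_cj, cj_normalizer, hg]; exact h2
    obtain ⟨c, hc, hcg⟩ := iso_conj hiso h.pw h1 h3
    refine ⟨(c * g⁻¹)⁻¹, inv_mem hcg, ?_⟩
    rw [← cj_def, mul_inv_rev, inv_inv, cj_mul, cj_eq_of_mem_normalizer (inv_mem hc), hg]

end Cfsg.Agent.S2975
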